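import Cfsg.Agent.H3.TC.Cover

/-!
# The covering of `SU_3(q)`, `gcd(3, q + 1) = 1`, from a table (helper3)

`cover_tab` : if for every trace `t` there are conjugates `x`, `B` of `x` with `x B` cyclic of trace `t`, and the same for the
normal forms without cyclic vector, then every nonscalar element is a product of two conjugates of `x`.
-/

set_option autoImplicit false

namespace Cfsg.Agent.H3.TC

open Matrix

/-- `3 × 3` matrices as nine entries (for the kernel) -/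
structure M3 (K : Type*) where
  a : K
  b : K
  c : K
  d : K
  e : K
  f : K
  g : K
  h : K
  i : K
deriving DecidableEq

namespace M3

variable {K : Type*} [CommRing K]

def mul (A B : M3 K) : M3 K :=
  ⟨A.a * B.a + A.b * B.d + A.c * B.g, A.a * B.b + A.b * B.e + A.c * B.h, A.a * B.c + A.b * B.f + A.c * B.i,
   A.d * B.a + A.e * B.d + A.f * B.g, A.d * B.b + A.e * B.e + A.f * B.h, A.d * B.c + A.e * B.f + A.f * B.i,
   A.g * B.a + A.h * B.d + A.i * B.g, A.g * B.b + A.h * B.e + A.i * B.h, A.g * B.c + A.h * B.f + A.i * B.i⟩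

def st (s : K → K) (A : M3 K) : M3 K := ⟨s A.i, s A.f, s A.c, s A.h, s A.e, s A.b, s A.g, s A.d, s A.a⟩

def det (A : M3 K) : K := A.a * (A.e * A.i - A.f * A.h) - A.b * (A.d * A.i - A.f * A.g) + A.c * (A.d * A.h - A.e * A.g)

def tr (A : M3 K) : K := A.a + A.e + A.i

/-- the determinant of `(e₀, A e₀, A² e₀)` -/
def kr (A : M3 K) : K := A.d * (A.g * A.a + A.h * A.d + A.i * A.g) - A.g * (A.d * A.a + A.e * A.d + A.f * A.g)

def one : M3 K := ⟨1, 0, 0, 0, 1, 0, 0, 0, 1⟩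

def toM (A : M3 K) : Matrix (Fin 3) (Fin 3) K := !![A.a, A.b, A.c; A.d, A.e, A.f; A.g, A.h, A.i]

theorem toM_mul (A B : M3 K) : (A.mul B).toM = A.toM * B.toM := by
  ext i j
  fin_cases i <;> fin_cases j <;> simp [toM, mul, Matrix.mul_apply, Fin.sum_univ_three]

theorem toM_one : (one : M3 K).toM = 1 := by
  ext i j
  fin_cases i <;> fin_cases j <;> simp [toM, one]

theorem toM_tr (A : M3 K) : A.toM.trace = A.tr := by
  simp [toM, tr, Matrix.trace, Fin.sum_univ_three]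

theorem toM_det (A : M3 K) : A.toM.det = A.det := by
  rw [Matrix.det_fin_three]
  simp [toM, det]
  ring

/-- the conditions -/
def Ok (s : K → K) (t : K) (A : M3 K) : Prop := (A.st s).mul A = one ∧ A.det = 1 ∧ A.tr = t ∧ A.kr ≠ 0

instance [DecidableEq K] (s : K → K) (t : K) (A : M3 K) : Decidable (Ok s t A) := by unfold Ok; infer_instance

end M3

open M3

variable {F : Type*} [Field F] {σ : F →+* F}

theorem toM_st (A : M3 F) : (A.st σ).toM = TC.st σ A.toM := by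
  rw [M3.toM, M3.toM, st_of]
  rfl

theorem toM_kr (A : M3 F) : (Kr A.toM ![1, 0, 0]).det = A.kr := by
  rw [Matrix.det_fin_three]
  simp [Kr, M3.toM, M3.kr, dotProduct, Fin.sum_univ_three]
  ring

theorem M3.Ok.us {t : F} {A : M3 F} (h : Ok σ t A) : US σ A.toM := by
  refine ⟨?_, by rw [toM_det, h.2.1]⟩
  rw [← toM_st, ← toM_mul, h.1, toM_one]

theorem M3.Ok.cj [Fintype F] {q : ℕ} (hF : Fintype.card F = q ^ 2) (hσ : ∀ x, σ x = x ^ q) (hσ2 : ∀ x, σ (σ x) = x)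
    (hq : 3 ≤ q) {k : ℕ} (hk : q + 1 ∣ 3 * k + 1) {t : F} {X A : M3 F} (hX : Ok σ t X) (h : Ok σ t A) :
    Cj σ X.toM A.toM :=
  conj_su_cop hF hσ hσ2 hq hk hX.us.1 hX.us.2 h.us.1 h.us.2 (by rw [toM_tr, toM_tr, hX.2.2.1, h.2.2.1])
    (v₁ := ![1, 0, 0]) (v₂ := ![1, 0, 0]) (by rw [toM_kr]; exact hX.2.2.2) (by rw [toM_kr]; exact h.2.2.2)

/-- **the covering theorem from a table** -/
theorem cover_tab [Fintype F] {q : ℕ} (hF : Fintype.card F = q ^ 2) (hσ : ∀ x, σ x = x ^ q) (hσ2 : ∀ x, σ (σ x) = x)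
    (hq : 3 ≤ q) {k : ℕ} (hk : q + 1 ∣ 3 * k + 1)
    (hiso : ∀ g : Matrix (Fin 3) (Fin 3) F, (∀ c : F, g ≠ c • (1 : Matrix (Fin 3) (Fin 3) F)) →
      ∃ e : Fin 3 → F, Bf σ e e = 0 ∧ Bf σ (g *ᵥ e) e ≠ 0)
    {X : M3 F} {t₀ : F} (hX : Ok σ t₀ X)
    (T1 : ∀ t : F, ∃ B : M3 F, Ok σ t₀ B ∧ (X.mul B).tr = t ∧ (X.mul B).kr ≠ 0)
    (T2 : ∀ c : F, c * σ c = 1 → ∃ β b' : F, ∃ A B : M3 F, c * β = -σ β ∧ σ β * b' = 1 ∧ Ok σ t₀ A ∧ Ok σ t₀ B ∧
      A.mul B = ⟨0, 0, b', 0, c, 0, β, 0, c + σ c * σ c⟩)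
    {g : Matrix (Fin 3) (Fin 3) F} (hg : US σ g) (hs : ∀ c : F, g ≠ c • (1 : Matrix (Fin 3) (Fin 3) F)) :
    Cv σ X.toM g := by
  obtain ⟨e, he, hβ⟩ := hiso g hs
  rcases cyc_or_nf hσ2 hg he hβ with ⟨v, hv⟩ | ⟨β, c, hβ0, hcβ, hcc, hG⟩
  · obtain ⟨B, hB, htr, hkr⟩ := T1 g.trace
    have h1 : Cv σ X.toM (X.mul B).toM := ⟨X.toM, B.toM, Cj.refl _, hX.cj hF hσ hσ2 hq hk hB, toM_mul X B⟩
    have hU : US σ (X.mul B).toM := by rw [toM_mul]; exact hX.us.mul hB.us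
    refine h1.cj (conj_su_cop hF hσ hσ2 hq hk hU.1 hU.2 hg.1 hg.2 (by rw [toM_tr, htr]) (v₁ := ![1, 0, 0]) (v₂ := v)
      (by rw [toM_kr]; exact hkr) hv)
  · obtain ⟨β', b', A, B, h1, h2, hA, hB, hAB⟩ := T2 c hcc
    have hσβ' : σ β' ≠ 0 := left_ne_zero_of_mul_eq_one h2
    have hβ' : β' ≠ 0 := fun h => hσβ' (by rw [h, map_zero])
    have hσc : σ c = c⁻¹ := eq_inv_of_mul_eq_one_right hcc
    have h3 : NF σ β' c = (A.mul B).toM := by
      rw [hAB, NF, M3.toM, ← eq_inv_of_mul_eq_one_right h2, hσc, sq]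
    have h4 : Cv σ X.toM (NF σ β' c) := ⟨A.toM, B.toM, hX.cj hF hσ hσ2 hq hk hA, hX.cj hF hσ hσ2 hq hk hB, by
      rw [h3, toM_mul]⟩
    exact h4.cj ((cj_NF hF hσ hσ2 hβ' hβ0 h1 hcβ).trans hG)

/-! ### reading tables -/

section

variable {K : Type*} [CommRing K] [DecidableEq K]

def mk9 (of : ℕ → K) : List ℕ → M3 K
  | [a, b, c, d, e, f, g, h, i] => ⟨of a, of b, of c, of d, of e, of f, of g, of h, of i⟩
  | _ => M3.one

/-- a line `[t, B]` of the first table -/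
def chk1 (of : ℕ → K) (s : K → K) (t₀ : K) (X : M3 K) : List ℕ → Bool
  | t :: l => decide (Ok s t₀ (mk9 of l)) && (decide ((X.mul (mk9 of l)).tr = of t) && decide ((X.mul (mk9 of l)).kr ≠ 0))
  | _ => false

def nf9 (s : K → K) (c β b' : K) : M3 K := ⟨0, 0, b', 0, c, 0, β, 0, c + s c * s c⟩

/-- a line `[c, β, b', A]` of the second table -/
def chk2 (of : ℕ → K) (s : K → K) (t₀ : K) : List ℕ → Bool
  | c :: β :: b' :: l => decide (of c * of β = -s (of β)) && (decide (s (of β) * of b' = 1) &&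
      (decide (Ok s t₀ (mk9 of l)) && (decide (Ok s t₀ (((mk9 of l).st s).mul (nf9 s (of c) (of β) (of b'))))  &&
      decide ((mk9 of l).mul (((mk9 of l).st s).mul (nf9 s (of c) (of β) (of b'))) = nf9 s (of c) (of β) (of b')))))
  | _ => false

end

theorem t1_of [DecidableEq F] (of : ℕ → F) (s : F → F) (hs : ∀ x, σ x = s x) {t₀ : F} {X : M3 F} {L : List (List ℕ)}
    (hL : ∀ l ∈ L, chk1 of s t₀ X l = true) (hc : ∀ t : F, ∃ n l, (n :: l) ∈ L ∧ of n = t) :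
    ∀ t : F, ∃ B : M3 F, Ok σ t₀ B ∧ (X.mul B).tr = t ∧ (X.mul B).kr ≠ 0 := by
  have hs' : (σ : F → F) = s := funext hs
  intro t
  obtain ⟨n, l, hl, ht⟩ := hc t
  have h := hL _ hl
  simp only [chk1, Bool.and_eq_true, decide_eq_true_eq] at h
  exact ⟨mk9 of l, by rw [hs']; exact h.1, by rw [h.2.1, ht], h.2.2⟩

theorem t2_of [DecidableEq F] (of : ℕ → F) (s : F → F) (hs : ∀ x, σ x = s x) {t₀ : F} {L : List (List ℕ)}
    (hL : ∀ l ∈ L, chk2 of s t₀ l = true)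
    (hc : ∀ c : F, c * s c = 1 → ∃ n β b' l, (n :: β :: b' :: l) ∈ L ∧ of n = c) :
    ∀ c : F, c * σ c = 1 → ∃ β b' : F, ∃ A B : M3 F, c * β = -σ β ∧ σ β * b' = 1 ∧ Ok σ t₀ A ∧ Ok σ t₀ B ∧
      A.mul B = ⟨0, 0, b', 0, c, 0, β, 0, c + σ c * σ c⟩ := by
  have hs' : (σ : F → F) = s := funext hs
  intro c hcc
  rw [hs'] at hcc ⊢
  obtain ⟨n, β, b', l, hl, hn⟩ := hc c hcc
  have h := hL _ hl
  simp only [chk2, Bool.and_eq_true, decide_eq_true_eq] at h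
  rw [hn] at h
  exact ⟨of β, of b', mk9 of l, _, h.1, h.2.1, h.2.2.1, h.2.2.2.1, h.2.2.2.2⟩

end Cfsg.Agent.H3.TC
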