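import Cfsg.Agent.H3.TC.Nf

/-!
# The covering theorem for `SU_3(q)`, `q` prime to 6 (helper3)
-/

set_option autoImplicit false

namespace Cfsg.Agent.H3.TC

open Matrix Polynomial

variable {F : Type*} [Field F] {σ : F →+* F}

/-- the normal form of the elements without cyclic vector -/
def NF (σ : F →+* F) (β c : F) : Matrix (Fin 3) (Fin 3) F :=
  !![0, 0, (σ β)⁻¹; 0, c, 0; β, 0, c + c⁻¹ ^ 2]

theorem Kr_cj {G g T : Matrix (Fin 3) (Fin 3) F} (h : T * G = g * T) (v : Fin 3 → F) :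
    Kr g (T *ᵥ v) = T * Kr G v := by
  have h1 : g *ᵥ (T *ᵥ v) = T *ᵥ (G *ᵥ v) := by rw [Matrix.mulVec_mulVec, ← h, Matrix.mulVec_mulVec]
  have h2 : g *ᵥ (g *ᵥ (T *ᵥ v)) = T *ᵥ (G *ᵥ (G *ᵥ v)) := by
    rw [h1, Matrix.mulVec_mulVec, ← h, ← Matrix.mulVec_mulVec]
  ext i j
  have h3 : (T * Kr G v) i j = (T *ᵥ (![v, G *ᵥ v, G *ᵥ (G *ᵥ v)] j)) i := rfl
  rw [h3]
  fin_cases j
  · rfl
  · exact congrFun h1 i
  · exact congrFun h2 i

/-- a cyclic vector or the special normal form -/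
theorem cyc_or_nf (hσ2 : ∀ x, σ (σ x) = x) {g : Matrix (Fin 3) (Fin 3) F} (hg : US σ g) {e : Fin 3 → F}
    (he : Bf σ e e = 0) (hβ : Bf σ (g *ᵥ e) e ≠ 0) : (∃ v, (Kr g v).det ≠ 0) ∨
      ∃ β c : F, β ≠ 0 ∧ c * β = -σ β ∧ c * σ c = 1 ∧ Cj σ (NF σ β c) g := by
  obtain ⟨c, d, x, y, hG, hc, hcc, hdx⟩ := exists_nf hσ2 hg he hβ
  obtain ⟨β, hβe⟩ : ∃ β, β = Bf σ (g *ᵥ e) e := ⟨_, rfl⟩
  rw [← hβe] at hG hβ hc
  have hσβ : σ β ≠ 0 := (map_ne_zero σ).2 hβ
  have hc0 : c ≠ 0 := left_ne_zero_of_mul_eq_one hcc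
  by_cases hd : d = 0
  · have hx := hdx hd
    subst hd hx
    by_cases hy : y = c + c⁻¹ ^ 2
    · right
      subst hy
      exact ⟨β, c, hβ, hc, hcc, hG⟩
    · left
      obtain ⟨T, hT, hTd, hTG⟩ := hG
      refine ⟨T *ᵥ ![1, 1, 0], ?_⟩
      rw [Kr_cj hTG, Matrix.det_mul, hTd, one_mul, Matrix.det_fin_three]
      simp only [Kr, Matrix.of_apply, Matrix.mulVec, dotProduct, Fin.sum_univ_three, Matrix.cons_val]
      simp
      have h1 : σ β = -(c * β) := by rw [hc, neg_neg]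
      rw [h1]
      intro h2
      apply hy
      field_simp at h2 ⊢
      have h3 : β * (c ^ 2 * (y - c) - 1) = 0 := by linear_combination h2
      have h4 := (mul_eq_zero.1 h3).resolve_left hβ
      linear_combination h4
  · left
    obtain ⟨T, hT, hTd, hTG⟩ := hG
    refine ⟨T *ᵥ ![1, 0, 0], ?_⟩
    rw [Kr_cj hTG, Matrix.det_mul, hTd, one_mul, Matrix.det_fin_three]
    simp only [Kr, Matrix.of_apply, Matrix.mulVec, dotProduct, Fin.sum_univ_three, Matrix.cons_val]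
    simp [hβ, hd]

/-- rescaling the normal form -/
theorem cj_NF [Fintype F] {q : ℕ} (hF : Fintype.card F = q ^ 2) (hσ : ∀ x, σ x = x ^ q) (hσ2 : ∀ x, σ (σ x) = x)
    {β β' c : F} (h0 : β ≠ 0) (h0' : β' ≠ 0) (hc : c * β = -σ β) (hc' : c * β' = -σ β') :
    Cj σ (NF σ β c) (NF σ β' c) := by
  have hσβ : σ β ≠ 0 := (map_ne_zero σ).2 h0
  have hσβ' : σ β' ≠ 0 := (map_ne_zero σ).2 h0'
  obtain ⟨l, hl⟩ := LieClassical.HermBasic.exists_norm_eq hF (c := β / β') (by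
    rw [← hσ, map_div₀]
    have h1 : σ β = -(c * β) := by rw [hc, neg_neg]
    have h2 : σ β' = -(c * β') := by rw [hc', neg_neg]
    have hc0 : c ≠ 0 := by
      rintro rfl
      rw [zero_mul] at hc
      exact hσβ (neg_eq_zero.1 hc.symm)
    rw [h1, h2]
    field_simp)
  rw [← hσ] at hl
  have hl0 : l ≠ 0 := by
    rintro rfl
    rw [zero_mul] at hl
    exact div_ne_zero h0 h0' hl.symm
  have hσl : σ l ≠ 0 := (map_ne_zero σ).2 hl0
  have h3 : β = β' * (l * σ l) := by rw [hl]; field_simp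
  have h4 : σ β = σ β' * (l * σ l) := by
    have := congrArg σ h3
    rw [map_mul, map_mul, hσ2] at this
    linear_combination this
  refine ⟨dT σ l, (us_dT hσ2 hl0).1, (us_dT hσ2 hl0).2, ?_⟩
  rw [dT, NF, NF, h4, h3]
  ext i j
  fin_cases i <;> fin_cases j <;> simp [Matrix.mul_apply, Fin.sum_univ_three] <;> field_simp

theorem us_NF {β c : F} (h0 : β ≠ 0) (hc : c * β = -σ β) (hcc : c * σ c = 1) :
    US σ (NF σ β c) := by
  have hσβ : σ β ≠ 0 := (map_ne_zero σ).2 h0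
  have hc0 : c ≠ 0 := left_ne_zero_of_mul_eq_one hcc
  have h1 : σ β = -(c * β) := by rw [hc, neg_neg]
  have h2 : σ c = c⁻¹ := eq_inv_of_mul_eq_one_right hcc
  constructor
  · rw [NF, st_of]
    ext i j
    fin_cases i <;> fin_cases j <;> simp [Matrix.mul_apply, Fin.sum_univ_three, h1, h2] <;> field_simp
    ring
  · rw [NF, Matrix.det_fin_three]
    simp [h1]
    field_simp

/-- the homologies -/
theorem cv_hom [Fintype F] {q : ℕ} (hF : Fintype.card F = q ^ 2) (hσ : ∀ x, σ x = x ^ q) (h2 : (2 : F) ≠ 0)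
    (hσ2 : ∀ x, σ (σ x) = x) {β c : F} (h0 : β ≠ 0) (hc : c * β = -σ β) (hcc : c * σ c = 1) (h1 : c ≠ 1) :
    Cv σ (x₀ σ) (NF σ β c) := by
  have hc0 : c ≠ 0 := left_ne_zero_of_mul_eq_one hcc
  have hσc : σ c = c⁻¹ := eq_inv_of_mul_eq_one_right hcc
  have h1' : c - 1 ≠ 0 := sub_ne_zero.2 h1
  have h1'' : 1 - c ≠ 0 := sub_ne_zero.2 h1.symm
  have hr : 2 - c - c⁻¹ = -(1 - c) ^ 2 / c := by field_simp; ring
  have hr0 : 2 - c - c⁻¹ ≠ 0 := by
    rw [hr]
    exact div_ne_zero (neg_ne_zero.2 (pow_ne_zero 2 h1'')) hc0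
  have hσr : σ (2 - c - c⁻¹) = 2 - c - c⁻¹ := by
    rw [map_sub, map_sub, map_inv₀, hσc, inv_inv, map_ofNat]; ring
  have hcv := cv_vu h2 hσ2 (a := 2 - c - c⁻¹) (b := (c - 1)⁻¹) (b' := (2 - c - c⁻¹) * (1 - c) / c) hr0 (Or.inl hσr)
    (by
      rw [map_inv₀, map_sub, hσc, map_one]
      have : c⁻¹ - 1 = (1 - c) / c := by field_simp
      rw [this]
      field_simp
      ring)
    (by
      rw [map_div₀, map_mul, hσr, map_sub, map_one, hσc, hr]
      field_simp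
      ring)
  have hβ' : (c - 1)⁻¹ ≠ 0 := inv_ne_zero h1'
  have hc' : c * (c - 1)⁻¹ = -σ (c - 1)⁻¹ := by
    rw [map_inv₀, map_sub, hσc, map_one]
    have : c⁻¹ - 1 = (1 - c) / c := by field_simp
    rw [this]
    field_simp
    ring
  refine hcv.cj (Cj.symm hσ2 ((cj_NF hF hσ hσ2 h0 hβ' hc hc').trans ?_))
  have hT : US σ (uU σ (c - 1) (c - 1)) := by
    apply us_uU hσ2
    rw [map_sub, hσc, map_one]
    field_simp
    ring
  refine ⟨uU σ (c - 1) (c - 1), hT.1, hT.2, ?_⟩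
  have h3 : σ (c - 1)⁻¹ = -(c * (c - 1)⁻¹) := by rw [hc', neg_neg]
  rw [uU, NF, vL, uU, h3, hσr, hr, map_one, map_sub, hσc, map_one]
  ext i j
  fin_cases i <;> fin_cases j <;> simp [Matrix.mul_apply, Fin.sum_univ_three] <;> field_simp <;> ring

/-- the transvections -/
theorem cv_transv (h2 : (2 : F) ≠ 0) (hσ2 : ∀ x, σ (σ x) = x) {β : F} (h0 : β ≠ 0) (hc : β = -σ β) :
    Cv σ (x₀ σ) (NF σ β 1) := by
  have h1 : σ β = -β := by linear_combination hc
  have hcv := cv_uU h2 hσ2 (a := 0) (b := β) (by rw [h1, map_zero]; ring)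
  refine hcv.cj (Cj.symm hσ2 ?_)
  refine ⟨!![0, 0, 1; 0, -1, 0; 1, 0, β⁻¹], ?_, ?_, ?_⟩
  · rw [st_of]
    ext i j
    fin_cases i <;> fin_cases j <;> simp [Matrix.mul_apply, Fin.sum_univ_three, h1]
  · rw [Matrix.det_fin_three]; simp
  · rw [uU, NF, h1]
    ext i j
    fin_cases i <;> fin_cases j <;> simp [Matrix.mul_apply, Fin.sum_univ_three, h0] <;> field_simp <;> ring

/-- unipotent elements with a cyclic vector -/
theorem exists_uU (h2 : (2 : F) ≠ 0) (hσ2 : ∀ x, σ (σ x) = x) {g : Matrix (Fin 3) (Fin 3) F} (hg : US σ g)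
    (ht : g.trace = 3) {v : Fin 3 → F} (hv : (Kr g v).det ≠ 0) :
    ∃ a b : F, b + σ b + a * σ a = 0 ∧ Cj σ (uU σ a b) g := by
  have h3 := ch3u hg.1 hg.2
  rw [ht, map_ofNat] at h3
  obtain ⟨N, hN⟩ : ∃ N, N = g - 1 := ⟨_, rfl⟩
  have hN3 : N * (N * N) = 0 := by
    have e1 : N * (N * N) = g * (g * g) - (3 : F) • (g * g) + (3 : F) • g - 1 := by
      rw [hN]
      simp only [Matrix.sub_mul, Matrix.mul_sub, Matrix.one_mul, Matrix.mul_one]
      have e3 : (3 : F) • (g * g) = g * g + g * g + g * g := by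
        rw [show (3 : F) = 1 + 1 + 1 by norm_num, add_smul, add_smul, one_smul]
      have e4 : (3 : F) • g = g + g + g := by
        rw [show (3 : F) = 1 + 1 + 1 by norm_num, add_smul, add_smul, one_smul]
      rw [e3, e4]
      abel
    rw [e1, h3]
    abel
  obtain ⟨w, hw⟩ : ∃ w, w = (N * N) *ᵥ v := ⟨_, rfl⟩
  have hw0 : w ≠ 0 := by
    intro h0
    apply hv
    have e1 : g *ᵥ (g *ᵥ v) = (2 : F) • (g *ᵥ v) - v := by
      have e2 : (N * N) *ᵥ v = g *ᵥ (g *ᵥ v) - (2 : F) • (g *ᵥ v) + v := by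
        rw [hN, Matrix.sub_mul, Matrix.mul_sub, Matrix.one_mul, Matrix.mul_one, Matrix.sub_mulVec, Matrix.sub_mulVec,
          Matrix.sub_mulVec, Matrix.one_mulVec, ← Matrix.mulVec_mulVec, two_smul]
        abel
      rw [hw, e2] at h0
      have : g *ᵥ (g *ᵥ v) = (g *ᵥ (g *ᵥ v) - (2 : F) • (g *ᵥ v) + v) + ((2 : F) • (g *ᵥ v) - v) := by abel
      rw [this, h0, zero_add]
    have e3 : ∀ i, (g *ᵥ (g *ᵥ v)) i = 2 * (g *ᵥ v) i - v i := fun i => by rw [e1]; rfl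
    rw [Matrix.det_fin_three]
    simp only [Kr, Matrix.of_apply, Matrix.cons_val]
    rw [e3, e3, e3]
    ring
  have hgw : g *ᵥ w = w := by
    have e1 : N *ᵥ w = 0 := by rw [hw, Matrix.mulVec_mulVec, hN3, Matrix.zero_mulVec]
    have e2 : g = N + 1 := by rw [hN, sub_add_cancel]
    rw [e2, Matrix.add_mulVec, e1, Matrix.one_mulVec, zero_add]
  have hww : Bf σ w w = 0 := by
    have e1 : st σ N * (N * N) = 0 := by
      have e2 : st σ N = -(st σ g * N) := by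
        have e3 : g = N + 1 := by rw [hN, sub_add_cancel]
        have e4 : st σ g = st σ N + 1 := by rw [e3, st_add, st_one]
        have e5 : st σ g * N = 1 - st σ g := by rw [hN, Matrix.mul_sub, hg.1, Matrix.mul_one]
        rw [e5, e4]
        abel
      rw [e2, Matrix.neg_mul, Matrix.mul_assoc, hN3, Matrix.mul_zero, neg_zero]
    have e2 : w = N *ᵥ (N *ᵥ v) := by rw [hw, Matrix.mulVec_mulVec]
    have e3 : Bf σ (N *ᵥ (N *ᵥ v)) w = Bf σ (N *ᵥ v) (st σ N *ᵥ w) := Bf_mul hσ2 _ _ _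
    have e4 : st σ N *ᵥ w = 0 := by rw [hw, Matrix.mulVec_mulVec, e1, Matrix.zero_mulVec]
    have e5 : Bf σ w w = Bf σ (N *ᵥ (N *ᵥ v)) w := by rw [← e2]
    rw [e5, e3, e4]
    simp [Bf]
  -- a partner of `w`
  obtain ⟨y, hy⟩ : ∃ y : Fin 3 → F, Bf σ w y = 1 := by
    obtain ⟨i, hi⟩ : ∃ i, w i ≠ 0 := by
      by_contra hcon
      push Not at hcon
      exact hw0 (funext hcon)
    refine ⟨Pi.single (Fin.rev i) (σ (w i)⁻¹), ?_⟩
    have e0 : Fin.rev (0 : Fin 3) = 2 := rfl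
    have e1 : Fin.rev (1 : Fin 3) = 1 := rfl
    have e2 : Fin.rev (2 : Fin 3) = 0 := rfl
    fin_cases i
    · have hi' : w 0 ≠ 0 := hi
      simp [Bf, hσ2, hi']
    · have hi' : w 1 ≠ 0 := hi
      simp [Bf, hσ2, hi']
    · have hi' : w 2 ≠ 0 := hi
      simp [Bf, hσ2, hi']
  obtain ⟨z, hz⟩ : ∃ z : Fin 3 → F, z = y + (-(Bf σ y y) / 2) • w := ⟨_, rfl⟩
  have hyw : Bf σ y w = 1 := by rw [Bf_swap hσ2, hy, map_one]
  have hyy : σ (Bf σ y y) = Bf σ y y := (Bf_swap hσ2 y y).symm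
  have hadd : ∀ (a b c : Fin 3 → F), Bf σ (a + b) c = Bf σ a c + Bf σ b c := fun a b c => by
    simp only [Bf, Pi.add_apply]; ring
  have hadd' : ∀ (a b c : Fin 3 → F), Bf σ a (b + c) = Bf σ a b + Bf σ a c := fun a b c => by
    simp only [Bf, Pi.add_apply, map_add]; ring
  have hwz : Bf σ w z = 1 := by rw [hz, hadd', Bf_smul_right, hww, hy, mul_zero, add_zero]
  have hzz : Bf σ z z = 0 := by
    rw [hz, hadd, hadd', hadd', Bf_smul_left, Bf_smul_left, Bf_smul_right, Bf_smul_right, hww, hy, hyw, map_div₀,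
      map_neg, hyy, map_ofNat]
    field_simp
    ring
  obtain ⟨T, hT, hTw, -⟩ := exists_frame hσ2 hww hzz hwz
  obtain ⟨G, hG⟩ : ∃ G, G = st σ T * g * T := ⟨_, rfl⟩
  have hGU : US σ G := by rw [hG]; exact ((hT.st hσ2).mul hg).mul hT
  have hcol : G *ᵥ ![1, 0, 0] = ![1, 0, 0] := by
    rw [hG, ← Matrix.mulVec_mulVec, ← Matrix.mulVec_mulVec, hTw, hgw, ← hTw, Matrix.mulVec_mulVec, hT.1,
      Matrix.one_mulVec]
  have g0 : G 0 0 = 1 := by
    have := congrFun hcol 0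
    simpa [Matrix.mulVec, dotProduct, Fin.sum_univ_three] using this
  have g1 : G 1 0 = 0 := by
    have := congrFun hcol 1
    simpa [Matrix.mulVec, dotProduct, Fin.sum_univ_three] using this
  have g2 : G 2 0 = 0 := by
    have := congrFun hcol 2
    simpa [Matrix.mulVec, dotProduct, Fin.sum_univ_three] using this
  have hU := hGU.1
  have ee : ∀ i j, (st σ G * G) i j = (1 : Matrix (Fin 3) (Fin 3) F) i j := fun i j => by rw [hU]
  have e0 : Fin.rev (0 : Fin 3) = 2 := rfl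
  have e1 : Fin.rev (1 : Fin 3) = 1 := rfl
  have e2 : Fin.rev (2 : Fin 3) = 0 := rfl
  have a1 := ee 2 1
  have a2 := ee 2 2
  have a4 := ee 0 2
  have a5 := ee 0 1
  simp only [Matrix.mul_apply, Fin.sum_univ_three, st_apply, e0, e1, e2, g0, g1, g2, map_zero, map_one, zero_mul,
    zero_add, one_mul] at a1 a2 a4 a5
  have o1 : (1 : Matrix (Fin 3) (Fin 3) F) 2 1 = 0 := rfl
  have o2 : (1 : Matrix (Fin 3) (Fin 3) F) 2 2 = 1 := rfl
  have o4 : (1 : Matrix (Fin 3) (Fin 3) F) 0 2 = 0 := rfl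
  have o5 : (1 : Matrix (Fin 3) (Fin 3) F) 0 1 = 0 := rfl
  rw [o1] at a1
  rw [o2] at a2
  rw [o4, a2, map_one] at a4
  rw [o5, a1, a2, map_one] at a5
  have hdet := hGU.2
  rw [Matrix.det_fin_three, g0, g1, g2, a1, a2] at hdet
  have g11 : G 1 1 = 1 := by linear_combination hdet
  refine ⟨G 1 2, G 0 2, by linear_combination a4, ?_⟩
  have h7 : uU σ (G 1 2) (G 0 2) = G := by
    rw [uU]
    have h8 : -σ (G 1 2) = G 0 1 := by rw [g11] at a5; linear_combination -a5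
    rw [h8]
    ext i j
    fin_cases i <;> fin_cases j <;> simp [g0, g1, g2, g11, a1, a2]
  rw [h7, hG]
  exact cj_st hT g

/-- a scalar of the special unitary group -/
theorem US.smul {g : Matrix (Fin 3) (Fin 3) F} (hg : US σ g) {z : F} (hz : z ^ 3 = 1) (hz' : z * σ z = 1) :
    US σ (z • g) := by
  refine ⟨?_, by rw [Matrix.det_smul, Fintype.card_fin, hz, hg.2, one_mul]⟩
  rw [st_smul, Matrix.smul_mul, Matrix.mul_smul, hg.1, smul_smul, mul_comm, hz', one_smul]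

theorem Kr_smul (z : F) (g : Matrix (Fin 3) (Fin 3) F) (v : Fin 3 → F) :
    (Kr (z • g) v).det = z ^ 3 * (Kr g v).det := by
  rw [Matrix.det_fin_three, Matrix.det_fin_three]
  simp only [Kr, Matrix.of_apply, Matrix.cons_val, Matrix.smul_mulVec, Matrix.mulVec_smul, Pi.smul_apply, smul_eq_mul]
  ring

/-- **the covering theorem** -/
theorem cover [Fintype F] {q : ℕ} (hF : Fintype.card F = q ^ 2) (hσ : ∀ x, σ x = x ^ q) (hσ2 : ∀ x, σ (σ x) = x)
    (hq : 3 ≤ q) (h2 : (2 : F) ≠ 0) (h3 : (3 : F) ≠ 0) {g : Matrix (Fin 3) (Fin 3) F} (hg : US σ g)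
    (hs : ∀ c : F, g ≠ c • (1 : Matrix (Fin 3) (Fin 3) F)) :
    ∃ z : F, z ^ 3 = 1 ∧ z * σ z = 1 ∧ Cv σ (x₀ σ) (z • g) := by
  obtain ⟨δ, hδ0, hδ⟩ := LieClassical.HermBasic.exists_trace_zero_ne hF
  rw [← hσ] at hδ
  have hδ' : σ δ = -δ := by linear_combination hδ
  obtain ⟨e, he, hβ⟩ := exists_iso h2 hδ0 hδ' hs
  rcases cyc_or_nf hσ2 hg he hβ with ⟨v, hv⟩ | ⟨β, c, hβ0, hcβ, hcc, hG⟩
  · by_cases ht : ∃ c : F, c ^ 3 = 1 ∧ c * σ c = 1 ∧ g.trace = 3 * c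
    · -- unipotent up to a scalar
      obtain ⟨c, hc3, hcc, hct⟩ := ht
      have hc0 : c ≠ 0 := left_ne_zero_of_mul_eq_one hcc
      have hz3 : (c⁻¹) ^ 3 = 1 := by rw [inv_pow, hc3, inv_one]
      have hzz : c⁻¹ * σ c⁻¹ = 1 := by rw [map_inv₀, ← mul_inv, hcc, inv_one]
      refine ⟨c⁻¹, hz3, hzz, ?_⟩
      obtain ⟨a, b, hab, hG⟩ := exists_uU h2 hσ2 (hg.smul hz3 hzz) (v := v) (by
        rw [Matrix.trace_smul, hct, smul_eq_mul]
        field_simp) (by rw [Kr_smul, hz3, one_mul]; exact hv)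
      exact (cv_uU h2 hσ2 hab).cj hG
    · push Not at ht
      refine ⟨1, one_pow 3, by rw [map_one, one_mul], ?_⟩
      rw [one_smul]
      obtain ⟨a, b, b', ha, hσa, hb, hb', htr, hK⟩ := exists_tr h2 h3 hσ2 hδ0 hδ' (t := g.trace)
        (by
          intro h4
          exact ht 1 (one_pow 3) (by rw [map_one, one_mul]) (by rw [h4, mul_one]))
      have hcv := cv_vu h2 hσ2 ha hσa hb hb'
      refine hcv.cj (conj_su hF hσ hσ2 hq h3 (v₁ := ![1, 0, 0]) (v₂ := v) ?_ ?_ hg.1 hg.2 ?_ ?_ hv ?_)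
      · exact ((us_vL hσ2 (by rw [map_one]; linear_combination hb)).mul (us_uU hσ2 hb')).1
      · exact ((us_vL hσ2 (by rw [map_one]; linear_combination hb)).mul (us_uU hσ2 hb')).2
      · rw [trace_vu, htr]
      · rw [det_Kr_vu]; exact hK
      · rw [trace_vu, htr]; exact ht
  · by_cases hc3 : c ^ 3 = 1
    · have hc0 : c ≠ 0 := left_ne_zero_of_mul_eq_one hcc
      have hz3 : (c⁻¹) ^ 3 = 1 := by rw [inv_pow, hc3, inv_one]
      have hzz : c⁻¹ * σ c⁻¹ = 1 := by rw [map_inv₀, ← mul_inv, hcc, inv_one]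
      refine ⟨c⁻¹, hz3, hzz, ?_⟩
      have hσc : σ c = c⁻¹ := eq_inv_of_mul_eq_one_right hcc
      have hσβ : σ β = -(c * β) := by rw [hcβ, neg_neg]
      have h5 : Cv σ (x₀ σ) (NF σ (c⁻¹ * β) 1) := by
        apply cv_transv h2 hσ2 (mul_ne_zero (inv_ne_zero hc0) hβ0)
        rw [map_mul, map_inv₀, hσc, inv_inv, hσβ]
        field_simp
        linear_combination (-1 : F) * hc3
      refine h5.cj ?_
      have h6 : NF σ (c⁻¹ * β) 1 = c⁻¹ • NF σ β c := by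
        rw [NF, NF, map_mul, map_inv₀, hσc, inv_inv, hσβ]
        ext i j
        fin_cases i <;> fin_cases j <;> simp
        · field_simp
        · field_simp
        · field_simp
          linear_combination hc3
      rw [h6]
      obtain ⟨T, hT, hTd, hTG⟩ := hG
      exact ⟨T, hT, hTd, by rw [Matrix.mul_smul, Matrix.smul_mul, hTG]⟩
    · refine ⟨1, one_pow 3, by rw [map_one, one_mul], ?_⟩
      rw [one_smul]
      refine (cv_hom hF hσ h2 hσ2 hβ0 hcβ hcc ?_).cj hG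
      rintro rfl
      exact hc3 (one_pow 3)

end Cfsg.Agent.H3.TC
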