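import Cfsg.Agent.H3.TC.Star
import Mathlib.FieldTheory.Finite.GaloisField
import Mathlib.RingTheory.AdjoinRoot
import Mathlib.Algebra.Polynomial.SpecificDegree
import Mathlib.LinearAlgebra.Determinant

/-!
# Cyclic elements of `SU_3(q)` (helper3)

`conj_su` : isometries of determinant one with cyclic vectors and the same trace `t`, `t ≠ 3 c` with `c ^ 3 = 1`,
are conjugate in `SU_3(q)`.  `conj_su_cop` : the same without the restriction on `t`, if `3` and `q + 1` are coprime.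
-/

set_option autoImplicit false

namespace Cfsg.Agent.H3.TC

open Matrix Polynomial

variable {F : Type*} [Field F] {σ : F →+* F}

/-- the matrix with columns `v`, `G v`, `G² v` -/
def Kr (G : Matrix (Fin 3) (Fin 3) F) (v : Fin 3 → F) : Matrix (Fin 3) (Fin 3) F :=
  Matrix.of fun i j => ![v, G *ᵥ v, G *ᵥ (G *ᵥ v)] j i

/-- the companion matrix of `X³ - t X² + s X - 1` -/
def Co (t s : F) : Matrix (Fin 3) (Fin 3) F := !![0, 0, 1; 1, 0, -s; 0, 1, t]

/-- the second coefficient of the characteristic polynomial -/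
def e2 (G : Matrix (Fin 3) (Fin 3) F) : F := (adjugate G).trace

theorem ch3 (G : Matrix (Fin 3) (Fin 3) F) :
    G * (G * G) = G.trace • (G * G) - e2 G • G + G.det • (1 : Matrix (Fin 3) (Fin 3) F) := by
  rw [e2, Matrix.det_fin_three, Matrix.trace_fin_three, Matrix.trace_fin_three, Matrix.adjugate_fin_three]
  ext i j
  fin_cases i <;> fin_cases j <;>
  simp [Matrix.mul_apply, Fin.sum_univ_three] <;> ring

theorem e2_eq {G : Matrix (Fin 3) (Fin 3) F} (h1 : st σ G * G = 1) (hd : G.det = 1) : e2 G = σ G.trace := by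
  have h2 : adjugate G = st σ G := by
    have h3 : adjugate G * G = 1 := by rw [Matrix.adjugate_mul, hd, one_smul]
    have h4 : G * st σ G = 1 := mul_eq_one_comm.1 h1
    calc adjugate G = adjugate G * (G * st σ G) := by rw [h4, Matrix.mul_one]
      _ = st σ G := by rw [← Matrix.mul_assoc, h3, Matrix.one_mul]
  rw [e2, h2, trace_st]

theorem ch3u {G : Matrix (Fin 3) (Fin 3) F} (h1 : st σ G * G = 1) (hd : G.det = 1) :
    G * (G * G) = G.trace • (G * G) - σ G.trace • G + 1 := by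
  rw [ch3, e2_eq h1 hd, hd, one_smul]

theorem mul_Kr {G : Matrix (Fin 3) (Fin 3) F} (h1 : st σ G * G = 1) (hd : G.det = 1) (v : Fin 3 → F) :
    G * Kr G v = Kr G v * Co G.trace (σ G.trace) := by
  have h3 : G *ᵥ (G *ᵥ (G *ᵥ v)) = G.trace • (G *ᵥ (G *ᵥ v)) - σ G.trace • (G *ᵥ v) + v := by
    have := congrArg (fun M : Matrix (Fin 3) (Fin 3) F => M *ᵥ v) (ch3u h1 hd)
    simpa only [Matrix.add_mulVec, Matrix.sub_mulVec, Matrix.smul_mulVec, Matrix.one_mulVec,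
      ← Matrix.mulVec_mulVec] using this
  have h4 : ∀ i, (G *ᵥ (G *ᵥ (G *ᵥ v))) i = G.trace * (G *ᵥ (G *ᵥ v)) i - σ G.trace * (G *ᵥ v) i + v i := fun i => by
    rw [h3]; rfl
  ext i j
  have h5 : (G * Kr G v) i j = (G *ᵥ (![v, G *ᵥ v, G *ᵥ (G *ᵥ v)] j)) i := rfl
  rw [h5, Matrix.mul_apply, Fin.sum_univ_three]
  fin_cases j
  · simp [Kr, Co]
  · simp [Kr, Co]
  · simp only [Kr, Co, Matrix.of_apply]
    simp only [Fin.reduceFinMk, Matrix.cons_val]
    rw [h4]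
    ring

/-- a cyclic vector makes the commutant commutative -/
theorem cc_of_Kr {G : Matrix (Fin 3) (Fin 3) F} {v : Fin 3 → F} (hv : (Kr G v).det ≠ 0) : CC G := by
  have key : ∀ Z : Matrix (Fin 3) (Fin 3) F, Z * G = G * Z → Z *ᵥ v = 0 → Z = 0 := by
    intro Z hZ h0
    have h1 : Z *ᵥ (G *ᵥ v) = 0 := by rw [Matrix.mulVec_mulVec, hZ, ← Matrix.mulVec_mulVec, h0, Matrix.mulVec_zero]
    have h2 : Z *ᵥ (G *ᵥ (G *ᵥ v)) = 0 := by
      rw [Matrix.mulVec_mulVec, hZ, ← Matrix.mulVec_mulVec, h1, Matrix.mulVec_zero]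
    have h3 : Z * Kr G v = 0 := by
      ext i j
      have h5 : (Z * Kr G v) i j = (Z *ᵥ (![v, G *ᵥ v, G *ᵥ (G *ᵥ v)] j)) i := rfl
      rw [h5]
      fin_cases j
      · exact congrFun h0 i
      · exact congrFun h1 i
      · exact congrFun h2 i
    have h4 : IsUnit (Kr G v).det := isUnit_iff_ne_zero.2 hv
    calc Z = Z * Kr G v * (Kr G v)⁻¹ := by rw [Matrix.mul_nonsing_inv_cancel_right _ _ h4]
      _ = 0 := by rw [h3, Matrix.zero_mul]
  intro X Y hX hY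
  obtain ⟨c, hc⟩ : ∃ c : Fin 3 → F, c = (Kr G v)⁻¹ *ᵥ (X *ᵥ v) := ⟨_, rfl⟩
  have hXc : X *ᵥ v = Kr G v *ᵥ c := by
    rw [hc, Matrix.mulVec_mulVec, Matrix.mul_nonsing_inv _ (isUnit_iff_ne_zero.2 hv), Matrix.one_mulVec]
  obtain ⟨P, hP⟩ : ∃ P : Matrix (Fin 3) (Fin 3) F, P = c 0 • 1 + c 1 • G + c 2 • (G * G) := ⟨_, rfl⟩
  have hPv : P *ᵥ v = X *ᵥ v := by
    rw [hXc, hP, Matrix.add_mulVec, Matrix.add_mulVec, Matrix.smul_mulVec, Matrix.smul_mulVec, Matrix.smul_mulVec,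
      Matrix.one_mulVec, ← Matrix.mulVec_mulVec]
    ext i
    simp only [Kr, Matrix.mulVec, dotProduct, Fin.sum_univ_three, Matrix.of_apply, Pi.add_apply, Pi.smul_apply,
      smul_eq_mul, Matrix.cons_val]
    ring
  have hPY : ∀ Y : Matrix (Fin 3) (Fin 3) F, Y * G = G * Y → P * Y = Y * P := by
    intro Y hY
    have h1 : G * G * Y = Y * (G * G) := by
      rw [Matrix.mul_assoc, ← hY, ← Matrix.mul_assoc, ← hY, Matrix.mul_assoc]
    rw [hP, Matrix.add_mul, Matrix.add_mul, Matrix.mul_add, Matrix.mul_add, Matrix.smul_mul, Matrix.smul_mul,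
      Matrix.smul_mul, Matrix.mul_smul, Matrix.mul_smul, Matrix.mul_smul, h1, hY, Matrix.one_mul, Matrix.mul_one]
  have hXP : X = P := by
    have h1 : X - P = 0 := by
      apply key
      · rw [Matrix.sub_mul, Matrix.mul_sub, hX, hPY G rfl]
      · rw [Matrix.sub_mulVec, hPv, sub_self]
    exact sub_eq_zero.1 h1
  rw [hXP, hPY Y hY]

/-- conjugacy under `GL_3` -/
theorem exists_T {G₁ G₂ : Matrix (Fin 3) (Fin 3) F} (h1 : st σ G₁ * G₁ = 1) (hd1 : G₁.det = 1)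
    (h2 : st σ G₂ * G₂ = 1) (hd2 : G₂.det = 1) (ht : G₁.trace = G₂.trace) {v₁ v₂ : Fin 3 → F}
    (hv1 : (Kr G₁ v₁).det ≠ 0) (hv2 : (Kr G₂ v₂).det ≠ 0) :
    ∃ T : Matrix (Fin 3) (Fin 3) F, IsUnit T ∧ T * G₁ = G₂ * T := by
  have hu1 := isUnit_iff_ne_zero.2 hv1
  have e1 := mul_Kr h1 hd1 v₁
  have e2 := mul_Kr h2 hd2 v₂
  rw [← ht] at e2
  refine ⟨Kr G₂ v₂ * (Kr G₁ v₁)⁻¹, ?_, ?_⟩
  · apply IsUnit.mul
    · rw [Matrix.isUnit_iff_isUnit_det]; exact isUnit_iff_ne_zero.2 hv2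
    · rw [Matrix.isUnit_nonsing_inv_iff, Matrix.isUnit_iff_isUnit_det]; exact hu1
  · have e3 : (Kr G₁ v₁)⁻¹ * G₁ = Co G₁.trace (σ G₁.trace) * (Kr G₁ v₁)⁻¹ := by
      calc (Kr G₁ v₁)⁻¹ * G₁ = (Kr G₁ v₁)⁻¹ * (G₁ * Kr G₁ v₁) * (Kr G₁ v₁)⁻¹ := by
            rw [Matrix.mul_assoc, Matrix.mul_assoc, Matrix.mul_nonsing_inv _ hu1, Matrix.mul_one]
        _ = Co G₁.trace (σ G₁.trace) * (Kr G₁ v₁)⁻¹ := by
            rw [e1, ← Matrix.mul_assoc, Matrix.nonsing_inv_mul _ hu1, Matrix.one_mul]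
    rw [Matrix.mul_assoc, e3, ← Matrix.mul_assoc, ← e2, Matrix.mul_assoc]

/-! ### determinants of elements of the commutant -/

theorem det_one_add (u : Matrix (Fin 3) (Fin 3) F) (t : F) :
    ((1 : Matrix (Fin 3) (Fin 3) F) + t • u).det = 1 + u.trace * t + (adjugate u).trace * t ^ 2 + u.det * t ^ 3 := by
  rw [Matrix.det_fin_three, Matrix.det_fin_three, Matrix.trace_fin_three, Matrix.trace_fin_three,
    Matrix.adjugate_fin_three]
  simp
  ring

theorem det_sub_smul (G : Matrix (Fin 3) (Fin 3) F) (b : F) :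
    (G - b • (1 : Matrix (Fin 3) (Fin 3) F)).det = -(b ^ 3 - G.trace * b ^ 2 + e2 G * b - G.det) := by
  rw [e2, Matrix.det_fin_three, Matrix.det_fin_three, Matrix.trace_fin_three, Matrix.trace_fin_three,
    Matrix.adjugate_fin_three]
  simp
  ring

theorem trace_adj_sub (G : Matrix (Fin 3) (Fin 3) F) (b : F) :
    (adjugate (G - b • (1 : Matrix (Fin 3) (Fin 3) F))).trace = 3 * b ^ 2 - 2 * G.trace * b + e2 G := by
  rw [e2, Matrix.trace_fin_three, Matrix.trace_fin_three, Matrix.adjugate_fin_three, Matrix.trace_fin_three,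
    Matrix.adjugate_fin_three]
  simp
  ring

/-- a simple root gives all determinants -/
theorem exists_det_root {G : Matrix (Fin 3) (Fin 3) F} {b : F}
    (h0 : b ^ 3 - G.trace * b ^ 2 + e2 G * b - G.det = 0) (h1 : 3 * b ^ 2 - 2 * G.trace * b + e2 G ≠ 0) (θ : F) :
    ∃ y : Matrix (Fin 3) (Fin 3) F, y * G = G * y ∧ y.det = θ := by
  obtain ⟨A, hA⟩ : ∃ A : Matrix (Fin 3) (Fin 3) F, A = G - b • 1 := ⟨_, rfl⟩
  have hdA : A.det = 0 := by rw [hA, det_sub_smul, h0, neg_zero]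
  have htA : (adjugate A).trace = 3 * b ^ 2 - 2 * G.trace * b + e2 G := by rw [hA, trace_adj_sub]
  have hcomm : adjugate A * G = G * adjugate A := by
    have h2 : G = A + b • 1 := by rw [hA, sub_add_cancel]
    rw [h2, Matrix.mul_add, Matrix.add_mul, Matrix.adjugate_mul, Matrix.mul_adjugate, Matrix.smul_mul, Matrix.mul_smul,
      Matrix.one_mul, Matrix.mul_one]
  refine ⟨1 + ((θ - 1) / (adjugate A).trace) • adjugate A, ?_, ?_⟩
  · rw [Matrix.add_mul, Matrix.mul_add, Matrix.smul_mul, Matrix.mul_smul, hcomm, Matrix.one_mul, Matrix.mul_one]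
  · rw [det_one_add, Matrix.adjugate_adjugate _ (by simp), Matrix.det_adjugate, hdA]
    simp only [Fintype.card_fin, Nat.add_one_sub_one, Nat.reduceSub, pow_one, zero_smul, Matrix.trace_zero, zero_mul,
      add_zero, ne_eq, OfNat.ofNat_ne_zero, not_false_eq_true, zero_pow]
    rw [htA, mul_div_cancel₀ _ h1]
    ring

/-- an irreducible characteristic polynomial gives all determinants -/
theorem exists_det_irr [Finite F] {G : Matrix (Fin 3) (Fin 3) F} {f : F[X]} (hf : Irreducible f) (hf3 : f.natDegree = 3)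
    (hfm : f.Monic) (hfG : aeval G f = 0) (θ : F) :
    ∃ y : Matrix (Fin 3) (Fin 3) F, y * G = G * y ∧ y.det = θ := by
  have : Fact (Irreducible f) := ⟨hf⟩
  let L := AdjoinRoot f
  have hfin : Module.Finite F L := hfm.finite_adjoinRoot
  have hLf : Finite L := Module.finite_of_finite F
  have hrank : Module.finrank F L = 3 := by
    rw [(AdjoinRoot.powerBasis hf.ne_zero).finrank, AdjoinRoot.powerBasis_dim, hf3]
  let φ : L →ₐ[F] Matrix (Fin 3) (Fin 3) F := Ideal.Quotient.liftₐ (Ideal.span {f}) (aeval G) (by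
    intro a ha
    obtain ⟨c, rfl⟩ := Ideal.mem_span_singleton.1 ha
    rw [map_mul, hfG, zero_mul])
  have hφG : ∀ α : L, φ α * G = G * φ α := by
    intro α
    obtain ⟨p, rfl⟩ := Ideal.Quotient.mk_surjective α
    show aeval G p * G = G * aeval G p
    have h1 : aeval G (p * X) = aeval G (X * p) := by rw [mul_comm]
    rwa [map_mul, map_mul, aeval_X] at h1
  let v : Fin 3 → F := fun _ => 1
  have hv : v ≠ 0 := fun h => one_ne_zero (congrFun h 0)
  let ℓ : L →ₗ[F] (Fin 3 → F) :=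
    { toFun := fun α => φ α *ᵥ v
      map_add' := fun a b => by rw [map_add, Matrix.add_mulVec]
      map_smul' := fun c a => by rw [map_smul, Matrix.smul_mulVec]; rfl }
  have hinj : Function.Injective ℓ := by
    rw [injective_iff_map_eq_zero]
    intro α hα
    by_contra h0
    have h1 : φ α⁻¹ *ᵥ (φ α *ᵥ v) = v := by
      rw [Matrix.mulVec_mulVec, ← map_mul, inv_mul_cancel₀ h0, map_one, Matrix.one_mulVec]
    have h2 : φ α *ᵥ v = 0 := hα
    rw [h2, Matrix.mulVec_zero] at h1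
    exact hv h1.symm
  let e : L ≃ₗ[F] (Fin 3 → F) := LinearEquiv.ofInjectiveOfFinrankEq ℓ hinj (by rw [hrank, Module.finrank_fin_fun])
  obtain ⟨α, hα⟩ := FiniteField.norm_surjective F L θ
  refine ⟨φ α, hφG α, ?_⟩
  have h1 : Matrix.toLin' (φ α) = (e : L →ₗ[F] (Fin 3 → F)) ∘ₗ Algebra.lmul F L α ∘ₗ (e.symm : (Fin 3 → F) →ₗ[F] L) := by
    apply LinearMap.ext
    intro w
    obtain ⟨β, rfl⟩ := e.surjective w
    rw [LinearMap.comp_apply, LinearMap.comp_apply, LinearEquiv.coe_coe, LinearEquiv.coe_coe, LinearEquiv.symm_apply_apply,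
      Matrix.toLin'_apply]
    show φ α *ᵥ (φ β *ᵥ v) = φ (α * β) *ᵥ v
    rw [Matrix.mulVec_mulVec, map_mul]
  rw [← LinearMap.det_toLin', h1, LinearMap.det_conj, ← hα, Algebra.norm_apply]

/-- all determinants in the commutant, unless the characteristic polynomial is a cube -/
theorem exists_det [Finite F] (h3 : (3 : F) ≠ 0) {G : Matrix (Fin 3) (Fin 3) F} (h1 : st σ G * G = 1) (hd : G.det = 1)
    (ht : ∀ c : F, c ^ 3 = 1 → c * σ c = 1 → G.trace ≠ 3 * c) (θ : F) :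
    ∃ y : Matrix (Fin 3) (Fin 3) F, y * G = G * y ∧ y.det = θ := by
  by_cases hr : ∃ b : F, b ^ 3 - G.trace * b ^ 2 + e2 G * b - G.det = 0
  · obtain ⟨b, hb⟩ := hr
    by_cases hb' : 3 * b ^ 2 - 2 * G.trace * b + e2 G = 0
    · -- a double root
      obtain ⟨b₁, hb₁⟩ : ∃ b₁, b₁ = G.trace - 2 * b := ⟨_, rfl⟩
      by_cases hbb : b₁ = b
      · exfalso
        have h4 : G.trace = 3 * b := by rw [hbb] at hb₁; linear_combination -hb₁
        have h5 : b ^ 3 = 1 := by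
          rw [h4] at hb hb'
          rw [hd] at hb
          linear_combination (norm := ring_nf) hb - b * hb'
        refine ht b h5 ?_ h4
        have h6 := e2_eq h1 hd
        rw [h4, map_mul, map_ofNat] at h6
        rw [h6, h4] at hb'
        have h7 : (3 : F) * (σ b - b ^ 2) = 0 := by linear_combination hb'
        have h8 : σ b = b ^ 2 := sub_eq_zero.1 ((mul_eq_zero.1 h7).resolve_left h3)
        rw [h8]
        linear_combination h5
      · refine exists_det_root (b := b₁) ?_ ?_ θ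
        · -- `f b₁ = 0`
          subst hb₁
          linear_combination (norm := ring_nf) hb + (G.trace - 3 * b) * hb'
        · intro h4
          apply hbb
          have h5 : (b₁ - b) ^ 2 = 0 := by
            subst hb₁
            linear_combination (norm := ring_nf) h4 - hb'
          exact sub_eq_zero.1 (pow_eq_zero_iff (by norm_num) |>.1 h5)
    · exact exists_det_root hb hb' θ
  · push Not at hr
    obtain ⟨f, hf⟩ : ∃ f : F[X], f = X ^ 3 - C G.trace * X ^ 2 + C (e2 G) * X - C G.det := ⟨_, rfl⟩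
    have hdeg : f.natDegree = 3 := by rw [hf]; compute_degree!
    have hm : f.Monic := by
      rw [hf]
      monicity!
    refine exists_det_irr (f := f) ?_ hdeg hm ?_ θ
    · apply irreducible_of_degree_le_three_of_not_isRoot
      · rw [hdeg]; simp
      · intro x hx
        apply hr x
        have := hx.eq_zero
        rw [hf] at this
        simpa using this
    · rw [hf]
      simp only [map_add, map_sub, map_mul, map_pow, aeval_X, aeval_C]
      rw [pow_succ', pow_two, ch3]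
      simp only [Algebra.algebraMap_eq_smul_one, Matrix.smul_mul, Matrix.one_mul]
      abel

/-! ### conjugacy in the special unitary group -/

theorem exists_h90 [Fintype F] {q : ℕ} (hF : Fintype.card F = q ^ 2) (hσ : ∀ x, σ x = x ^ q) (hσ2 : ∀ x, σ (σ x) = x)
    (hq : 3 ≤ q) {d : F} (hd : σ d * d = 1) : ∃ θ : F, θ ≠ 0 ∧ d * σ θ = θ := by
  have hd0 : d ≠ 0 := right_ne_zero_of_mul_eq_one hd
  obtain ⟨γ, hγ, h⟩ := exists_theta (σ := σ) hF hσ hq (3 * d) (3 * d ^ 2) (d ^ 3)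
  have h2 : γ + d * σ γ ≠ 0 := by
    intro h3
    apply h
    have : γ ^ 3 + 3 * d * γ ^ 2 * σ γ + 3 * d ^ 2 * γ * σ γ ^ 2 + d ^ 3 * σ γ ^ 3 = (γ + d * σ γ) ^ 3 := by ring
    rw [this, h3, zero_pow (by norm_num)]
  refine ⟨γ + d * σ γ, h2, ?_⟩
  rw [map_add, map_mul, hσ2]
  linear_combination γ * hd

variable [Fintype F] {q : ℕ}

/-- `G₁` and `G₂` are conjugate in the special unitary group -/
def Cj (σ : F →+* F) (G₁ G₂ : Matrix (Fin 3) (Fin 3) F) : Prop :=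
  ∃ T : Matrix (Fin 3) (Fin 3) F, st σ T * T = 1 ∧ T.det = 1 ∧ T * G₁ = G₂ * T

theorem conj_su (hF : Fintype.card F = q ^ 2) (hσ : ∀ x, σ x = x ^ q) (hσ2 : ∀ x, σ (σ x) = x) (hq : 3 ≤ q)
    (h3 : (3 : F) ≠ 0) {G₁ G₂ : Matrix (Fin 3) (Fin 3) F} (h1 : st σ G₁ * G₁ = 1) (hd1 : G₁.det = 1)
    (h2 : st σ G₂ * G₂ = 1) (hd2 : G₂.det = 1) (htr : G₁.trace = G₂.trace) {v₁ v₂ : Fin 3 → F}
    (hv1 : (Kr G₁ v₁).det ≠ 0) (hv2 : (Kr G₂ v₂).det ≠ 0)
    (ht : ∀ c : F, c ^ 3 = 1 → c * σ c = 1 → G₁.trace ≠ 3 * c) : Cj σ G₁ G₂ := by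
  have hcc := cc_of_Kr hv1
  obtain ⟨T₀, hT₀u, hT₀⟩ := exists_T h1 hd1 h2 hd2 htr hv1 hv2
  obtain ⟨T, hT, hTG⟩ := conj_unitary hF hσ hσ2 hq h1 h2 hcc hT₀ hT₀u
  have hdT : σ T.det * T.det = 1 := by
    have := congrArg Matrix.det hT
    rwa [Matrix.det_mul, det_st, Matrix.det_one] at this
  have hdT0 : T.det ≠ 0 := right_ne_zero_of_mul_eq_one hdT
  obtain ⟨θ, hθ0, hθ⟩ := exists_h90 hF hσ hσ2 hq (d := (T.det)⁻¹) (by
    rw [map_inv₀, ← mul_inv, hdT, inv_one])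
  obtain ⟨y, hyG, hy⟩ := exists_det h3 h1 hd1 ht θ
  have hyu : IsUnit y := by
    rw [Matrix.isUnit_iff_isUnit_det, hy]; exact isUnit_iff_ne_zero.2 hθ0
  have hsyG := st_comm h1 hyG
  have hsyd : (st σ y).det = σ θ := by rw [det_st, hy]
  have hσθ0 : σ θ ≠ 0 := (map_ne_zero σ).2 hθ0
  have hsyu : IsUnit (st σ y) := by
    rw [Matrix.isUnit_iff_isUnit_det, hsyd]; exact isUnit_iff_ne_zero.2 hσθ0
  obtain ⟨y, rfl⟩ := hyu
  obtain ⟨z, hz⟩ := hsyu
  have hyz : (y : Matrix (Fin 3) (Fin 3) F) * z = z * y := by rw [hz]; exact hcc _ _ hyG hsyG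
  have hzG : (z : Matrix (Fin 3) (Fin 3) F) * G₁ = G₁ * z := by rw [hz]; exact hsyG
  have hziG : ((z⁻¹ : (Matrix (Fin 3) (Fin 3) F)ˣ) : Matrix (Fin 3) (Fin 3) F) * G₁ = G₁ * (z⁻¹ : (Matrix (Fin 3) (Fin 3) F)ˣ) :=
    (Cg G₁).inv_mem (x := z) hzG
  have hsz : st σ (z : Matrix (Fin 3) (Fin 3) F) = y := by rw [hz, st_st hσ2]
  have hszi : st σ ((z⁻¹ : (Matrix (Fin 3) (Fin 3) F)ˣ) : Matrix (Fin 3) (Fin 3) F) = (y⁻¹ : (Matrix (Fin 3) (Fin 3) F)ˣ) := by
    apply Units.eq_inv_of_mul_eq_one_left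
    rw [← hsz, ← st_mul, Units.inv_mul, st_one]
  -- the correction
  refine ⟨T * ((y : Matrix (Fin 3) (Fin 3) F) * (z⁻¹ : (Matrix (Fin 3) (Fin 3) F)ˣ)), ?_, ?_, ?_⟩
  · rw [st_mul, st_mul, hszi, ← hz]
    calc ((y⁻¹ : (Matrix (Fin 3) (Fin 3) F)ˣ) : Matrix (Fin 3) (Fin 3) F) * z * st σ T * (T * (y * (z⁻¹ : (Matrix (Fin 3) (Fin 3) F)ˣ)))
        = (y⁻¹ : (Matrix (Fin 3) (Fin 3) F)ˣ) * z * (st σ T * T) * (y * (z⁻¹ : (Matrix (Fin 3) (Fin 3) F)ˣ)) := by
          simp only [Matrix.mul_assoc]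
      _ = (y⁻¹ : (Matrix (Fin 3) (Fin 3) F)ˣ) * (z * y) * (z⁻¹ : (Matrix (Fin 3) (Fin 3) F)ˣ) := by
          rw [hT, Matrix.mul_one]
          simp only [Matrix.mul_assoc]
      _ = 1 := by
          rw [← hyz, ← Matrix.mul_assoc, Units.inv_mul, Matrix.one_mul, Units.mul_inv]
  · have hzd : ((z⁻¹ : (Matrix (Fin 3) (Fin 3) F)ˣ) : Matrix (Fin 3) (Fin 3) F).det * σ θ = 1 := by
      rw [← hsyd, ← hz, ← Matrix.det_mul, Units.inv_mul, Matrix.det_one]
    have h5 : θ * T.det = σ θ := by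
      calc θ * T.det = ((T.det)⁻¹ * σ θ) * T.det := by rw [hθ]
        _ = σ θ := by rw [mul_comm, ← mul_assoc, mul_inv_cancel₀ hdT0, one_mul]
    rw [Matrix.det_mul, Matrix.det_mul, hy]
    calc T.det * (θ * ((z⁻¹ : (Matrix (Fin 3) (Fin 3) F)ˣ) : Matrix (Fin 3) (Fin 3) F).det)
        = ((z⁻¹ : (Matrix (Fin 3) (Fin 3) F)ˣ) : Matrix (Fin 3) (Fin 3) F).det * (θ * T.det) := by ring
      _ = 1 := by rw [h5, hzd]
  · rw [Matrix.mul_assoc, Matrix.mul_assoc, hziG, ← Matrix.mul_assoc (y : Matrix (Fin 3) (Fin 3) F), hyG, ← Matrix.mul_assoc,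
      ← Matrix.mul_assoc, hTG]
    simp only [Matrix.mul_assoc]

/-- conjugacy when `3` and `q + 1` are coprime -/
theorem conj_su_cop (hF : Fintype.card F = q ^ 2) (hσ : ∀ x, σ x = x ^ q) (hσ2 : ∀ x, σ (σ x) = x) (hq : 3 ≤ q)
    {k : ℕ} (hk : q + 1 ∣ 3 * k + 1)
    {G₁ G₂ : Matrix (Fin 3) (Fin 3) F} (h1 : st σ G₁ * G₁ = 1) (hd1 : G₁.det = 1)
    (h2 : st σ G₂ * G₂ = 1) (hd2 : G₂.det = 1) (htr : G₁.trace = G₂.trace) {v₁ v₂ : Fin 3 → F}
    (hv1 : (Kr G₁ v₁).det ≠ 0) (hv2 : (Kr G₂ v₂).det ≠ 0) : Cj σ G₁ G₂ := by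
  have hcc := cc_of_Kr hv1
  obtain ⟨T₀, hT₀u, hT₀⟩ := exists_T h1 hd1 h2 hd2 htr hv1 hv2
  obtain ⟨T, hT, hTG⟩ := conj_unitary hF hσ hσ2 hq h1 h2 hcc hT₀ hT₀u
  have hdT : σ T.det * T.det = 1 := by
    have := congrArg Matrix.det hT
    rwa [Matrix.det_mul, det_st, Matrix.det_one] at this
  obtain ⟨c, hc⟩ : ∃ c, c = T.det ^ k := ⟨_, rfl⟩
  have hdq : T.det ^ (q + 1) = 1 := by rw [pow_succ, ← hσ, hdT]
  refine ⟨c • T, ?_, ?_, ?_⟩
  · rw [st_smul, Matrix.smul_mul, Matrix.mul_smul, hT, smul_smul, hc, map_pow, ← mul_pow, hdT, one_pow, one_smul]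
  · rw [Matrix.det_smul, Fintype.card_fin, hc, ← pow_mul, mul_comm k 3, ← pow_succ]
    obtain ⟨m, hm⟩ := hk
    rw [hm, pow_mul, hdq, one_pow]
  · rw [Matrix.smul_mul, Matrix.mul_smul, hTG]

end Cfsg.Agent.H3.TC
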