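import Cfsg.Agent.H3.TC.Cyc

/-!
# Products of two conjugates of a regular unipotent element of `SU_3(q)` (helper3)

`q` prime to 6.  `x₀ = uU 1 (-1/2)`; `Cv σ x₀ g` : `g` is a product of two conjugates of `x₀`.
-/

set_option autoImplicit false

namespace Cfsg.Agent.H3.TC

open Matrix Polynomial

variable {F : Type*} [Field F] {σ : F →+* F}

/-- the special unitary matrices -/
def US (σ : F →+* F) (A : Matrix (Fin 3) (Fin 3) F) : Prop := st σ A * A = 1 ∧ A.det = 1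

theorem US.one : US σ 1 := ⟨by rw [st_one, Matrix.one_mul], Matrix.det_one⟩

theorem US.mul {A B : Matrix (Fin 3) (Fin 3) F} (hA : US σ A) (hB : US σ B) : US σ (A * B) := by
  refine ⟨?_, by rw [Matrix.det_mul, hA.2, hB.2, one_mul]⟩
  rw [st_mul]
  calc st σ B * st σ A * (A * B) = st σ B * (st σ A * A) * B := by simp only [Matrix.mul_assoc]
    _ = 1 := by rw [hA.1, Matrix.mul_one, hB.1]

theorem US.mul_st {A : Matrix (Fin 3) (Fin 3) F} (hA : US σ A) : A * st σ A = 1 := mul_eq_one_comm.1 hA.1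

theorem US.st (hσ2 : ∀ x, σ (σ x) = x) {A : Matrix (Fin 3) (Fin 3) F} (hA : US σ A) : US σ (st σ A) := by
  refine ⟨by rw [st_st hσ2, hA.mul_st], by rw [det_st, hA.2, map_one]⟩

theorem Cj.refl (A : Matrix (Fin 3) (Fin 3) F) : Cj σ A A :=
  ⟨1, US.one.1, (US.one (σ := σ)).2, by rw [Matrix.one_mul, Matrix.mul_one]⟩

theorem Cj.trans {A B C : Matrix (Fin 3) (Fin 3) F} (h1 : Cj σ A B) (h2 : Cj σ B C) : Cj σ A C := by
  obtain ⟨T, hT, hTd, hTA⟩ := h1
  obtain ⟨S, hS, hSd, hSB⟩ := h2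
  have h3 := US.mul (σ := σ) ⟨hS, hSd⟩ ⟨hT, hTd⟩
  exact ⟨S * T, h3.1, h3.2, by rw [Matrix.mul_assoc, hTA, ← Matrix.mul_assoc, hSB, Matrix.mul_assoc]⟩

theorem Cj.symm (hσ2 : ∀ x, σ (σ x) = x) {A B : Matrix (Fin 3) (Fin 3) F} (h1 : Cj σ A B) : Cj σ B A := by
  obtain ⟨T, hT, hTd, hTA⟩ := h1
  have hU : US σ T := ⟨hT, hTd⟩
  refine ⟨st σ T, (hU.st hσ2).1, (hU.st hσ2).2, ?_⟩
  calc st σ T * B = st σ T * B * (T * st σ T) := by rw [hU.mul_st, Matrix.mul_one]
    _ = st σ T * (B * T) * st σ T := by simp only [Matrix.mul_assoc]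
    _ = st σ T * T * A * st σ T := by rw [← hTA]; simp only [Matrix.mul_assoc]
    _ = A * st σ T := by rw [hT, Matrix.one_mul]

theorem Cj.us {A B : Matrix (Fin 3) (Fin 3) F} (h : Cj σ A B) (hA : US σ A) : US σ B := by
  obtain ⟨T, hT, hTd, hTA⟩ := h
  have hU : US σ T := ⟨hT, hTd⟩
  have h1 : B = T * A * st σ T := by rw [hTA, Matrix.mul_assoc, hU.mul_st, Matrix.mul_one]
  have h2 : T * (A * st σ A) * st σ T = 1 := by rw [hA.mul_st, Matrix.mul_one, hU.mul_st]
  refine ⟨?_, ?_⟩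
  · have h3 : st σ B = T * st σ A * st σ T := by
      -- the inverse of `B`
      have h4 : B * (T * st σ A * st σ T) = 1 := by
        rw [h1]
        calc T * A * st σ T * (T * st σ A * st σ T) = T * A * (st σ T * T) * st σ A * st σ T := by
              simp only [Matrix.mul_assoc]
          _ = T * (A * st σ A) * st σ T := by rw [hT, Matrix.mul_one]; simp only [Matrix.mul_assoc]
          _ = 1 := h2
      have h5 : st σ B * B = 1 := by
        have e1 := congrArg (st σ) hTA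
        rw [st_mul, st_mul] at e1
        have e2 : A = st σ T * B * T := by
          rw [Matrix.mul_assoc, ← hTA, ← Matrix.mul_assoc, hT, Matrix.one_mul]
        -- `st T * st B = st A * st T`
        have e3 : st σ T * (st σ B * B) * T = 1 := by
          calc st σ T * (st σ B * B) * T = (st σ T * st σ B) * (B * T) := by simp only [Matrix.mul_assoc]
            _ = st σ A * st σ T * (T * A) := by rw [← e1, hTA]
            _ = st σ A * (st σ T * T) * A := by simp only [Matrix.mul_assoc]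
            _ = 1 := by rw [hT, Matrix.mul_one, hA.1]
        calc st σ B * B = (T * st σ T) * (st σ B * B) * (T * st σ T) := by rw [hU.mul_st, Matrix.one_mul, Matrix.mul_one]
          _ = T * (st σ T * (st σ B * B) * T) * st σ T := by simp only [Matrix.mul_assoc]
          _ = 1 := by rw [e3, Matrix.mul_one, hU.mul_st]
      calc st σ B = st σ B * (B * (T * st σ A * st σ T)) := by rw [h4, Matrix.mul_one]
        _ = T * st σ A * st σ T := by rw [← Matrix.mul_assoc, h5, Matrix.one_mul]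
    rw [h3, h1]
    calc T * st σ A * st σ T * (T * A * st σ T) = T * st σ A * (st σ T * T) * A * st σ T := by
          simp only [Matrix.mul_assoc]
      _ = T * (st σ A * A) * st σ T := by rw [hT, Matrix.mul_one]; simp only [Matrix.mul_assoc]
      _ = 1 := by rw [hA.1, Matrix.mul_one, hU.mul_st]
  · have h3 := congrArg Matrix.det hTA
    rw [Matrix.det_mul, Matrix.det_mul, hTd, hA.2, one_mul, mul_one] at h3
    exact h3.symm

/-- `g` is a product of two conjugates of `x` -/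
def Cv (σ : F →+* F) (x g : Matrix (Fin 3) (Fin 3) F) : Prop :=
  ∃ A B : Matrix (Fin 3) (Fin 3) F, Cj σ x A ∧ Cj σ x B ∧ g = A * B

theorem Cv.cj {x g g' : Matrix (Fin 3) (Fin 3) F} (h : Cv σ x g) (hg : Cj σ g g') : Cv σ x g' := by
  obtain ⟨A, B, hA, hB, rfl⟩ := h
  obtain ⟨T, hT, hTd, hTA⟩ := hg
  have hU : US σ T := ⟨hT, hTd⟩
  refine ⟨T * A * st σ T, T * B * st σ T, hA.trans ⟨T, hT, hTd, ?_⟩, hB.trans ⟨T, hT, hTd, ?_⟩, ?_⟩
  · rw [Matrix.mul_assoc _ (st σ T), hT, Matrix.mul_one]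
  · rw [Matrix.mul_assoc _ (st σ T), hT, Matrix.mul_one]
  · calc g' = g' * (T * st σ T) := by rw [hU.mul_st, Matrix.mul_one]
      _ = (T * (A * B)) * st σ T := by rw [hTA, Matrix.mul_assoc]
      _ = T * A * (st σ T * T) * B * st σ T := by rw [hT, Matrix.mul_one]; simp only [Matrix.mul_assoc]
      _ = T * A * st σ T * (T * B * st σ T) := by simp only [Matrix.mul_assoc]

/-! ### the elements -/

/-- upper unipotent elements -/
def uU (σ : F →+* F) (a b : F) : Matrix (Fin 3) (Fin 3) F := !![1, -σ a, b; 0, 1, a; 0, 0, 1]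

/-- lower unipotent elements -/
def vL (σ : F →+* F) (a b : F) : Matrix (Fin 3) (Fin 3) F := !![1, 0, 0; a, 1, 0; b, -σ a, 1]

/-- the torus -/
def dT (σ : F →+* F) (x : F) : Matrix (Fin 3) (Fin 3) F := !![x, 0, 0; 0, σ x * x⁻¹, 0; 0, 0, (σ x)⁻¹]

/-- the Weyl element -/
def wW : Matrix (Fin 3) (Fin 3) F := !![0, 0, 1; 0, -1, 0; 1, 0, 0]

theorem st_of (a b c d e f g h i : F) : st σ !![a, b, c; d, e, f; g, h, i] =
    !![σ i, σ f, σ c; σ h, σ e, σ b; σ g, σ d, σ a] := by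
  ext i j
  fin_cases i <;> fin_cases j <;> rfl

theorem us_uU (hσ2 : ∀ x, σ (σ x) = x) {a b : F} (h : b + σ b + a * σ a = 0) : US σ (uU σ a b) := by
  constructor
  · rw [uU, st_of]
    ext i j
    fin_cases i <;> fin_cases j <;> simp [Matrix.mul_apply, Fin.sum_univ_three, hσ2]
    linear_combination h
  · rw [uU, Matrix.det_fin_three]
    simp

theorem us_vL (hσ2 : ∀ x, σ (σ x) = x) {a b : F} (h : b + σ b + a * σ a = 0) : US σ (vL σ a b) := by
  constructor
  · rw [vL, st_of]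
    ext i j
    fin_cases i <;> fin_cases j <;> simp [Matrix.mul_apply, Fin.sum_univ_three, hσ2]
    linear_combination h
  · rw [vL, Matrix.det_fin_three]
    simp

theorem us_dT (hσ2 : ∀ x, σ (σ x) = x) {x : F} (hx : x ≠ 0) : US σ (dT σ x) := by
  have hσx : σ x ≠ 0 := (map_ne_zero σ).2 hx
  constructor
  · rw [dT, st_of]
    ext i j
    fin_cases i <;> fin_cases j <;> simp [Matrix.mul_apply, Fin.sum_univ_three, hσ2, hx, hσx]
    field_simp
  · rw [dT, Matrix.det_fin_three]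
    simp
    field_simp

theorem us_wW : US σ (wW : Matrix (Fin 3) (Fin 3) F) := by
  constructor
  · rw [wW, st_of]
    ext i j
    fin_cases i <;> fin_cases j <;> simp [Matrix.mul_apply, Fin.sum_univ_three]
  · rw [wW, Matrix.det_fin_three]
    simp

theorem uU_mul (a b c d : F) : uU σ a b * uU σ c d = uU σ (a + c) (b + d - σ a * c) := by
  rw [uU, uU, uU]
  ext i j
  fin_cases i <;> fin_cases j <;> simp [Matrix.mul_apply, Fin.sum_univ_three] <;> ring

theorem cj_dT (hσ2 : ∀ x, σ (σ x) = x) {x : F} (hx : x ≠ 0) (a b : F) :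
    Cj σ (uU σ a b) (uU σ (a * σ x ^ 2 / x) (b * x * σ x)) := by
  have hσx : σ x ≠ 0 := (map_ne_zero σ).2 hx
  refine ⟨dT σ x, (us_dT hσ2 hx).1, (us_dT hσ2 hx).2, ?_⟩
  rw [uU, uU, dT]
  ext i j
  fin_cases i <;> fin_cases j <;> simp [Matrix.mul_apply, Fin.sum_univ_three, hσ2] <;> field_simp

theorem cj_w (a b : F) : Cj σ (uU σ a b) (vL σ (-a) b) := by
  refine ⟨wW, us_wW.1, (us_wW (σ := σ)).2, ?_⟩
  rw [uU, vL, wW]
  ext i j
  fin_cases i <;> fin_cases j <;> simp [Matrix.mul_apply, Fin.sum_univ_three]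

theorem cj_b (h2 : (2 : F) ≠ 0) (hσ2 : ∀ x, σ (σ x) = x) {a b b' : F} (ha : a ≠ 0) (h : b + σ b + a * σ a = 0)
    (h' : b' + σ b' + a * σ a = 0) : Cj σ (uU σ a b) (uU σ a b') := by
  have hσa : σ a ≠ 0 := (map_ne_zero σ).2 ha
  have hσ2' : σ 2 = 2 := map_ofNat σ 2
  obtain ⟨c, hc⟩ : ∃ c, c = (b' - b) / (2 * σ a) := ⟨_, rfl⟩
  obtain ⟨d, hd⟩ : ∃ d, d = -(c * σ c) / 2 := ⟨_, rfl⟩
  have hσc : σ c = -(b' - b) / (2 * a) := by
    rw [hc, map_div₀, map_mul, hσ2, hσ2', map_sub]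
    congr 1
    linear_combination h' - h
  have hd' : d + σ d + c * σ c = 0 := by
    rw [hd, map_div₀, map_neg, map_mul, hσ2, hσ2']
    field_simp
    ring
  refine ⟨uU σ c d, (us_uU hσ2 hd').1, (us_uU hσ2 hd').2, ?_⟩
  rw [uU_mul, uU_mul]
  congr 1
  · rw [add_comm]
  · rw [hσc, hc]
    field_simp
    ring

/-- the element `x₀` -/
def x₀ (σ : F →+* F) : Matrix (Fin 3) (Fin 3) F := uU σ 1 (-2⁻¹)

theorem us_x₀ (h2 : (2 : F) ≠ 0) (hσ2 : ∀ x, σ (σ x) = x) : US σ (x₀ σ) := by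
  apply us_uU hσ2
  rw [map_neg, map_inv₀, map_ofNat, map_one]
  field_simp
  norm_num

theorem cj_x₀ (h2 : (2 : F) ≠ 0) (hσ2 : ∀ x, σ (σ x) = x) {a b : F} (ha : a ≠ 0) (hσa : σ a = a ∨ σ a = -a)
    (h : b + σ b + a * σ a = 0) : Cj σ (x₀ σ) (uU σ a b) := by
  have h1 := cj_dT hσ2 ha (1 : F) (-2⁻¹)
  have h3 : (1 : F) * σ a ^ 2 / a = a := by
    have h4 : σ a ^ 2 = a ^ 2 := by
      rcases hσa with h4 | h4
      · rw [h4]
      · rw [h4]; ring
    rw [h4]
    field_simp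
  rw [h3] at h1
  refine h1.trans (cj_b h2 hσ2 ha ?_ h)
  rw [map_mul, map_mul, hσ2, map_neg, map_inv₀, map_ofNat]
  field_simp
  ring

theorem cj_x₀' (h2 : (2 : F) ≠ 0) (hσ2 : ∀ x, σ (σ x) = x) {a b : F} (ha : a ≠ 0) (hσa : σ a = a ∨ σ a = -a)
    (h : b + σ b + a * σ a = 0) : Cj σ (x₀ σ) (vL σ a b) := by
  have h1 := cj_x₀ h2 hσ2 (a := -a) (b := b) (neg_ne_zero.2 ha) (by
    rw [map_neg]
    rcases hσa with h4 | h4
    · left; rw [h4]
    · right; rw [h4]) (by rw [map_neg]; linear_combination h)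
  have h3 := cj_w (σ := σ) (-a) b
  rw [neg_neg] at h3
  exact h1.trans h3

/-- all upper unipotent elements are products of two conjugates of `x₀` -/
theorem cv_uU (h2 : (2 : F) ≠ 0) (hσ2 : ∀ x, σ (σ x) = x) {a b : F} (h : b + σ b + a * σ a = 0) :
    Cv σ (x₀ σ) (uU σ a b) := by
  have hσ2' : σ 2 = 2 := map_ofNat σ 2
  -- `a = c + d` with `σ c = ± c`, `σ d = ± d`, `c, d ≠ 0`
  obtain ⟨c, d, hc, hd, hσc, hσd, hcd⟩ : ∃ c d : F, c ≠ 0 ∧ d ≠ 0 ∧ (σ c = c ∨ σ c = -c) ∧ (σ d = d ∨ σ d = -d) ∧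
      c + d = a := by
    by_cases h1 : a + σ a = 0
    · by_cases h0 : a = 0
      · exact ⟨1, -1, one_ne_zero, neg_ne_zero.2 one_ne_zero, Or.inl (map_one σ), Or.inl (by rw [map_neg, map_one]),
          by rw [h0]; ring⟩
      · have h3 : σ (a / 2) = -(a / 2) := by
          rw [map_div₀, hσ2']
          field_simp
          linear_combination h1
        exact ⟨a / 2, a / 2, div_ne_zero h0 h2, div_ne_zero h0 h2, Or.inr h3, Or.inr h3, by field_simp; norm_num⟩
    · by_cases h3 : a - σ a = 0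
      · have h0 : a ≠ 0 := by
          rintro rfl
          apply h1
          rw [map_zero, add_zero]
        have h4 : σ (a / 2) = a / 2 := by
          rw [map_div₀, hσ2']
          field_simp
          linear_combination -h3
        exact ⟨a / 2, a / 2, div_ne_zero h0 h2, div_ne_zero h0 h2, Or.inl h4, Or.inl h4, by field_simp; norm_num⟩
      · refine ⟨(a + σ a) / 2, (a - σ a) / 2, div_ne_zero h1 h2, div_ne_zero h3 h2, Or.inl ?_, Or.inr ?_, ?_⟩
        · rw [map_div₀, hσ2', map_add, hσ2, add_comm]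
        · rw [map_div₀, hσ2', map_sub, hσ2]; ring
        · field_simp; ring
  obtain ⟨e, he⟩ : ∃ e, e = -(d * σ d) / 2 := ⟨_, rfl⟩
  have he' : e + σ e + d * σ d = 0 := by
    rw [he, map_div₀, map_neg, map_mul, hσ2, hσ2']
    field_simp
    ring
  obtain ⟨f, hf⟩ : ∃ f, f = b - e + σ c * d := ⟨_, rfl⟩
  have hf' : f + σ f + c * σ c = 0 := by
    rw [hf, map_add, map_sub, map_mul, hσ2]
    rw [← hcd, map_add] at h
    linear_combination h - he'
  refine ⟨uU σ c f, uU σ d e, cj_x₀ h2 hσ2 hc hσc hf', cj_x₀ h2 hσ2 hd hσd he', ?_⟩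
  rw [uU_mul, hcd]
  congr 1
  rw [hf]
  ring

/-- products of a lower and an upper element -/
theorem cv_vu (h2 : (2 : F) ≠ 0) (hσ2 : ∀ x, σ (σ x) = x) {a b b' : F} (ha : a ≠ 0) (hσa : σ a = a ∨ σ a = -a)
    (hb : b + σ b + 1 = 0) (h : b' + σ b' + a * σ a = 0) :
    Cv σ (x₀ σ) (vL σ 1 b * uU σ a b') :=
  ⟨_, _, cj_x₀' h2 hσ2 one_ne_zero (Or.inl (map_one σ)) (by rw [map_one]; linear_combination hb),
    cj_x₀ h2 hσ2 ha hσa h, rfl⟩

theorem trace_vu (a b b' : F) : (vL σ 1 b * uU σ a b').trace = 3 - a - σ a + b * b' := by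
  rw [Matrix.trace_fin_three, vL, uU]
  simp [Matrix.mul_apply, Fin.sum_univ_three]
  ring

theorem det_Kr_vu (a b b' : F) : (Kr (vL σ 1 b * uU σ a b') ![1, 0, 0]).det = -1 - a * b * (1 + b) := by
  have h1 : vL σ 1 b * uU σ a b' = !![1, -σ a, b'; 1, 1 - σ a, a + b'; b, -1 - σ a * b, 1 - a + b * b'] := by
    rw [vL, uU]
    ext i j
    fin_cases i <;> fin_cases j <;> simp [Matrix.mul_apply, Fin.sum_univ_three] <;> ring
  rw [h1, Matrix.det_fin_three]
  simp only [Kr, Matrix.of_apply, Matrix.mulVec, dotProduct, Fin.sum_univ_three, Matrix.cons_val]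
  simp
  ring

end Cfsg.Agent.H3.TC
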