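import Cfsg.Agent.H3.TC.Solve

/-!
# Normal forms in `SU_3(q)` and the covering theorem for `q` prime to 6 (helper3)
-/

set_option autoImplicit false

namespace Cfsg.Agent.H3.TC

open Matrix Polynomial

variable {F : Type*} [Field F] {σ : F →+* F}

/-- the form -/
def Bf (σ : F →+* F) (x y : Fin 3 → F) : F := x 0 * σ (y 2) + x 1 * σ (y 1) + x 2 * σ (y 0)

theorem Bf_swap (hσ2 : ∀ x, σ (σ x) = x) (x y : Fin 3 → F) : Bf σ y x = σ (Bf σ x y) := by
  simp only [Bf, map_add, map_mul, hσ2]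
  ring

theorem Bf_mul (hσ2 : ∀ x, σ (σ x) = x) (A : Matrix (Fin 3) (Fin 3) F) (x y : Fin 3 → F) :
    Bf σ (A *ᵥ x) y = Bf σ x (st σ A *ᵥ y) := by
  simp only [Bf, Matrix.mulVec, dotProduct, Fin.sum_univ_three, st_apply, map_add, map_mul, hσ2]
  have e0 : Fin.rev (0 : Fin 3) = 2 := rfl
  have e1 : Fin.rev (1 : Fin 3) = 1 := rfl
  have e2 : Fin.rev (2 : Fin 3) = 0 := rfl
  rw [e0, e1, e2]
  ring

theorem Bf_us (hσ2 : ∀ x, σ (σ x) = x) {A : Matrix (Fin 3) (Fin 3) F} (hA : US σ A) (x y : Fin 3 → F) :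
    Bf σ (A *ᵥ x) (A *ᵥ y) = Bf σ x y := by
  rw [Bf_mul hσ2, Matrix.mulVec_mulVec, hA.1, Matrix.one_mulVec]

theorem Bf_smul_left (c : F) (x y : Fin 3 → F) : Bf σ (c • x) y = c * Bf σ x y := by
  simp only [Bf, Pi.smul_apply, smul_eq_mul]; ring

theorem Bf_smul_right (c : F) (x y : Fin 3 → F) : Bf σ x (c • y) = σ c * Bf σ x y := by
  simp only [Bf, Pi.smul_apply, smul_eq_mul, map_mul]; ring

/-- a hyperbolic pair is the image of the standard one -/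
theorem exists_frame (hσ2 : ∀ x, σ (σ x) = x) {e e' : Fin 3 → F} (h1 : Bf σ e e = 0) (h2 : Bf σ e' e' = 0)
    (h3 : Bf σ e e' = 1) : ∃ T : Matrix (Fin 3) (Fin 3) F, US σ T ∧ T *ᵥ ![1, 0, 0] = e ∧ T *ᵥ ![0, 0, 1] = e' := by
  have h4 : Bf σ e' e = 1 := by rw [Bf_swap hσ2, h3, map_one]
  simp only [Bf] at h1 h2 h3 h4
  obtain ⟨a, ha⟩ : ∃ a : Fin 3 → F, a = e := ⟨e, rfl⟩
  obtain ⟨b, hb⟩ : ∃ b : Fin 3 → F, b = e' := ⟨e', rfl⟩
  -- the third vector
  refine ⟨!![e 0, σ (-(e 0 * e' 1 - e 1 * e' 0)), e' 0; e 1, σ (e 0 * e' 2 - e 2 * e' 0), e' 1;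
    e 2, σ (-(e 1 * e' 2 - e 2 * e' 1)), e' 2], ⟨?_, ?_⟩, ?_, ?_⟩
  · rw [st_of]
    ext i j
    fin_cases i <;> fin_cases j <;>
      simp [Matrix.mul_apply, Fin.sum_univ_three, hσ2]
    · linear_combination h3
    · ring
    · linear_combination h2
    · ring
    · linear_combination h3 * (e' 0 * σ (e 2) + e' 1 * σ (e 1) + e' 2 * σ (e 0)) + h4 -
        h1 * (e' 0 * σ (e' 2) + e' 1 * σ (e' 1) + e' 2 * σ (e' 0))
    · ring
    · linear_combination h1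
    · ring
    · linear_combination h4
  · rw [Matrix.det_fin_three]
    simp
    linear_combination h3 * (e' 0 * σ (e 2) + e' 1 * σ (e 1) + e' 2 * σ (e 0)) + h4 -
        h1 * (e' 0 * σ (e' 2) + e' 1 * σ (e' 1) + e' 2 * σ (e' 0))
  · ext i
    fin_cases i <;> simp [Matrix.mulVec, dotProduct, Fin.sum_univ_three]
  · ext i
    fin_cases i <;> simp [Matrix.mulVec, dotProduct, Fin.sum_univ_three]

/-- conjugation by `T` -/
theorem cj_st {T : Matrix (Fin 3) (Fin 3) F} (hT : US σ T) (g : Matrix (Fin 3) (Fin 3) F) :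
    Cj σ (st σ T * g * T) g :=
  ⟨T, hT.1, hT.2, by rw [← Matrix.mul_assoc, ← Matrix.mul_assoc, hT.mul_st, Matrix.one_mul]⟩

/-- **the normal form** -/
theorem exists_nf (hσ2 : ∀ x, σ (σ x) = x) {g : Matrix (Fin 3) (Fin 3) F} (hg : US σ g) {e : Fin 3 → F}
    (he : Bf σ e e = 0) (hβ : Bf σ (g *ᵥ e) e ≠ 0) : ∃ c d x y : F,
      Cj σ !![0, 0, (σ (Bf σ (g *ᵥ e) e))⁻¹; 0, c, d; Bf σ (g *ᵥ e) e, x, y] g ∧ c * Bf σ (g *ᵥ e) e = -σ (Bf σ (g *ᵥ e) e) ∧
      c * σ c = 1 ∧ (d = 0 → x = 0) := by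
  obtain ⟨β, hβe⟩ : ∃ β, β = Bf σ (g *ᵥ e) e := ⟨_, rfl⟩
  rw [← hβe] at hβ
  have hσβ : σ β ≠ 0 := (map_ne_zero σ).2 hβ
  have h5 : Bf σ e (g *ᵥ e) = σ β := by rw [Bf_swap hσ2, ← hβe]
  obtain ⟨T, hT, hTe, hTe'⟩ := exists_frame hσ2 (e := e) (e' := β⁻¹ • (g *ᵥ e)) he
    (by rw [Bf_smul_left, Bf_smul_right, Bf_us hσ2 hg, he, mul_zero, mul_zero])
    (by rw [Bf_smul_right, h5, map_inv₀, inv_mul_cancel₀ hσβ])
  obtain ⟨G, hG⟩ : ∃ G, G = st σ T * g * T := ⟨_, rfl⟩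
  have hGU : US σ G := by rw [hG]; exact ((hT.st hσ2).mul hg).mul hT
  have hcol : G *ᵥ ![1, 0, 0] = β • ![0, 0, 1] := by
    have h6 : g *ᵥ e = β • (T *ᵥ ![0, 0, 1]) := by
      rw [hTe', smul_smul, mul_inv_cancel₀ hβ, one_smul]
    rw [hG, ← Matrix.mulVec_mulVec, ← Matrix.mulVec_mulVec, hTe, h6, Matrix.mulVec_smul, Matrix.mulVec_mulVec, hT.1,
      Matrix.one_mulVec]
  have g0 : G 0 0 = 0 := by
    have := congrFun hcol 0
    simpa [Matrix.mulVec, dotProduct, Fin.sum_univ_three] using this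
  have g1 : G 1 0 = 0 := by
    have := congrFun hcol 1
    simpa [Matrix.mulVec, dotProduct, Fin.sum_univ_three] using this
  have g2 : G 2 0 = β := by
    have := congrFun hcol 2
    simpa [Matrix.mulVec, dotProduct, Fin.sum_univ_three] using this
  have hU := hGU.1
  have ee : ∀ i j, (st σ G * G) i j = (1 : Matrix (Fin 3) (Fin 3) F) i j := fun i j => by rw [hU]
  have e0 : Fin.rev (0 : Fin 3) = 2 := rfl
  have e1 : Fin.rev (1 : Fin 3) = 1 := rfl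
  have e2 : Fin.rev (2 : Fin 3) = 0 := rfl
  have a1 := ee 2 1
  have a2 := ee 2 2
  have a3 := ee 1 1
  have a4 := ee 1 2
  have a5 := ee 0 1
  simp only [Matrix.mul_apply, Fin.sum_univ_three, st_apply, e0, e1, e2, g0, g1, g2, map_zero, zero_mul,
    add_zero] at a1 a2 a3 a4 a5
  have o1 : (1 : Matrix (Fin 3) (Fin 3) F) 2 1 = 0 := rfl
  have o2 : (1 : Matrix (Fin 3) (Fin 3) F) 2 2 = 1 := rfl
  have o3 : (1 : Matrix (Fin 3) (Fin 3) F) 1 1 = 1 := rfl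
  have o4 : (1 : Matrix (Fin 3) (Fin 3) F) 1 2 = 0 := rfl
  have o5 : (1 : Matrix (Fin 3) (Fin 3) F) 0 1 = 0 := rfl
  rw [o1] at a1
  rw [o2] at a2
  rw [o3] at a3
  rw [o4] at a4
  rw [o5] at a5
  have g01 : G 0 1 = 0 := (mul_eq_zero.1 a1).resolve_left hσβ
  have g02 : G 0 2 = (σ β)⁻¹ := eq_inv_of_mul_eq_one_right a2
  simp only [g01, map_zero, mul_zero, zero_mul, add_zero, zero_add] at a3 a4 a5
  have hdet := hGU.2
  rw [Matrix.det_fin_three, g0, g1, g2, g01, g02] at hdet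
  simp only [zero_mul, mul_zero, sub_zero, zero_sub, add_zero] at hdet
  refine ⟨G 1 1, G 1 2, G 2 1, G 2 2, ?_, ?_, by rw [mul_comm]; exact a3, ?_⟩
  · rw [← hβe]
    have h7 : !![0, 0, (σ β)⁻¹; 0, G 1 1, G 1 2; β, G 2 1, G 2 2] = G := by
      ext i j
      fin_cases i <;> fin_cases j <;> simp [g0, g1, g2, g01, g02]
    rw [h7, hG]
    exact cj_st hT g
  · rw [← hβe]
    field_simp at hdet
    linear_combination -hdet
  · intro hd
    rw [hd, map_zero, zero_mul, zero_add, g02] at a5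
    rw [map_inv₀, hσ2] at a5
    exact (mul_eq_zero.1 a5).resolve_left (inv_ne_zero hβ)

/-- nonscalar elements move an isotropic vector off its orthogonal space -/
theorem exists_iso (h2 : (2 : F) ≠ 0) {δ : F} (hδ0 : δ ≠ 0)
    (hδ : σ δ = -δ) {g : Matrix (Fin 3) (Fin 3) F} (hs : ∀ c : F, g ≠ c • (1 : Matrix (Fin 3) (Fin 3) F)) :
    ∃ e : Fin 3 → F, Bf σ e e = 0 ∧ Bf σ (g *ᵥ e) e ≠ 0 := by
  by_contra hcon
  push Not at hcon
  have key : ∀ x y : F, y + σ y + x * σ x = 0 →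
      (g 0 0 + g 0 1 * x + g 0 2 * y) * σ y + (g 1 0 + g 1 1 * x + g 1 2 * y) * σ x +
        (g 2 0 + g 2 1 * x + g 2 2 * y) = 0 := by
    intro x y hxy
    have := hcon ![1, x, y] (by simp [Bf]; linear_combination hxy)
    simpa [Bf, Matrix.mulVec, dotProduct, Fin.sum_univ_three] using this
  have h4 : (4 : F) ≠ 0 := by
    have : (4 : F) = 2 * 2 := by norm_num
    rw [this]
    exact mul_ne_zero h2 h2
  obtain ⟨h, hh⟩ : ∃ h : F, h = 2⁻¹ := ⟨_, rfl⟩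
  have hh2 : 2 * h = 1 := by rw [hh, mul_inv_cancel₀ h2]
  have hσh : σ h = h := by rw [hh, map_inv₀, map_ofNat]
  have k0 : g 2 0 = 0 := by
    have := key 0 0 (by simp)
    simpa using this
  have k1 : g 0 2 = 0 := by
    have := hcon ![0, 0, 1] (by simp [Bf])
    simpa [Bf, Matrix.mulVec, dotProduct, Fin.sum_univ_three] using this
  have k2 : g 2 2 = g 0 0 := by
    have h5 := key 0 δ (by rw [hδ, map_zero]; ring)
    rw [k0, k1, hδ, map_zero] at h5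
    have h6 : δ * (g 2 2 - g 0 0) = 0 := by linear_combination h5
    exact sub_eq_zero.1 ((mul_eq_zero.1 h6).resolve_left hδ0)
  -- `x = 1`, `x = -1`
  have m1 := key 1 (-h) (by rw [map_neg, hσh, map_one]; linear_combination -hh2)
  have m2 := key 1 (-h + δ) (by rw [map_add, map_neg, hσh, hδ, map_one]; linear_combination -hh2)
  have m3 := key (-1) (-h) (by rw [map_neg, hσh, map_neg, map_one]; linear_combination -hh2)
  have m4 := key δ (h * δ ^ 2) (by rw [map_mul, map_pow, hσh, hδ]; linear_combination δ ^ 2 * hh2)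
  have m5 := key δ (h * δ ^ 2 + δ) (by
    rw [map_add, map_mul, map_pow, hσh, hδ]; linear_combination δ ^ 2 * hh2)
  simp only [map_add, map_neg, map_mul, map_pow, map_one, hσh, hδ, k0, k1, k2] at m1 m2 m3 m4 m5
  have n1 : g 1 2 = g 0 1 := by
    have : δ * (g 1 2 - g 0 1) = 0 := by linear_combination m2 - m1
    exact sub_eq_zero.1 ((mul_eq_zero.1 this).resolve_left hδ0)
  have n2 : g 0 1 = 0 := by
    have h6 : (2 * δ * δ) * g 0 1 = 0 := by
      rw [n1] at m4 m5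
      linear_combination m4 - m5
    exact (mul_eq_zero.1 h6).resolve_left (mul_ne_zero (mul_ne_zero h2 hδ0) hδ0)
  rw [n2] at n1
  rw [n1, n2] at m1 m3 m4
  have n3 : g 1 1 = g 0 0 := by
    have h6 : 2 * (g 1 1 - g 0 0) = 0 := by linear_combination m1 + m3 + 2 * g 0 0 * hh2
    exact sub_eq_zero.1 ((mul_eq_zero.1 h6).resolve_left h2)
  rw [n3] at m1 m4
  have n4 : g 2 1 = g 1 0 := by
    have h6 : δ * (g 2 1 - g 1 0) = 0 := by linear_combination m4 - δ ^ 2 * g 0 0 * hh2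
    exact sub_eq_zero.1 ((mul_eq_zero.1 h6).resolve_left hδ0)
  have n5 : g 1 0 = 0 := by
    rw [n4] at m1
    have h6 : 2 * g 1 0 = 0 := by linear_combination m1 + g 0 0 * hh2
    exact (mul_eq_zero.1 h6).resolve_left h2
  rw [n5] at n4
  apply hs (g 0 0)
  ext i j
  fin_cases i <;> fin_cases j <;> simp [k0, k1, k2, n1, n2, n3, n4, n5]

end Cfsg.Agent.H3.TC
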