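import Cfsg.Agent.H3.TC.Elt
import Cfsg.Agent.H494.TC.Base

/-!
# From `3 × 3` matrices to `PSU_3(q)` (helper3)

`pp_of_cover` : if every nonscalar special unitary matrix (antidiagonal form) is, up to a scalar, a product of two
conjugates of `x`, `x ^ r = 1`, `r ≥ 5` prime, then `PP (PSU 3 F q)`.
-/

set_option autoImplicit false

namespace Cfsg.Agent.H3.TC

open Matrix Cfsg

universe u

variable {F : Type u} [Field F] [Fintype F] {q : ℕ} {σ : F →+* F}

/-- membership in `SU_3(q)` through the matrix -/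
theorem mem_SU_of (hσ : ∀ x, σ x = x ^ q) (g : Matrix.SpecialLinearGroup (Fin 3) F)
    (h : ((g : Matrix (Fin 3) (Fin 3) F).map σ)ᵀ * (g : Matrix (Fin 3) (Fin 3) F) = 1) : g ∈ SU 3 F q := by
  rw [LieClassical.HermBasic.mem_SU_iff]
  intro u v
  have h1 : (g : Matrix (Fin 3) (Fin 3) F) * ((g : Matrix (Fin 3) (Fin 3) F).map σ)ᵀ = 1 := mul_eq_one_comm.1 h
  have ee : ∀ i j, (((g : Matrix (Fin 3) (Fin 3) F).map σ)ᵀ * (g : Matrix (Fin 3) (Fin 3) F)) i j =
      (1 : Matrix (Fin 3) (Fin 3) F) i j := fun i j => by rw [h]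
  simp only [hermForm, ← hσ, Matrix.mulVec, dotProduct, Fin.sum_univ_three, map_add, map_mul]
  have a00 := ee 0 0
  have a01 := ee 0 1
  have a02 := ee 0 2
  have a10 := ee 1 0
  have a11 := ee 1 1
  have a12 := ee 1 2
  have a20 := ee 2 0
  have a21 := ee 2 1
  have a22 := ee 2 2
  simp only [Matrix.mul_apply, Fin.sum_univ_three, Matrix.transpose_apply, Matrix.map_apply, Matrix.one_apply_eq,
    ne_eq, Fin.reduceEq, not_false_eq_true, Matrix.one_apply_ne] at a00 a01 a02 a10 a11 a12 a20 a21 a22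
  linear_combination u 0 * σ (v 0) * a00 + u 1 * σ (v 0) * a01 + u 2 * σ (v 0) * a02 + u 0 * σ (v 1) * a10 +
    u 1 * σ (v 1) * a11 + u 2 * σ (v 1) * a12 + u 0 * σ (v 2) * a20 + u 1 * σ (v 2) * a21 + u 2 * σ (v 2) * a22

omit [Fintype F] in
theorem of_mem_SU (hσ : ∀ x, σ x = x ^ q) {g : Matrix.SpecialLinearGroup (Fin 3) F} (hg : g ∈ SU 3 F q) :
    ((g : Matrix (Fin 3) (Fin 3) F).map σ)ᵀ * (g : Matrix (Fin 3) (Fin 3) F) = 1 := by
  rw [LieClassical.HermBasic.mem_SU_iff] at hg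
  ext i j
  have h1 := hg (Pi.single j 1) (Pi.single i 1)
  rw [Matrix.mulVec_single_one, Matrix.mulVec_single_one] at h1
  simp only [hermForm, ← hσ] at h1
  rw [Matrix.mul_apply]
  simp only [Matrix.transpose_apply, Matrix.map_apply]
  have h2 : ∑ k, σ ((g : Matrix (Fin 3) (Fin 3) F) k i) * (g : Matrix (Fin 3) (Fin 3) F) k j =
      ∑ k, (g : Matrix (Fin 3) (Fin 3) F) k j * σ ((g : Matrix (Fin 3) (Fin 3) F) k i) :=
    Finset.sum_congr rfl fun k _ => mul_comm _ _
  rw [h2]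
  refine (show _ = _ from h1).trans ?_
  rw [Matrix.one_apply, Fin.sum_univ_three]
  fin_cases i <;> fin_cases j <;> simp

/-- a basis change between the two forms -/
structure Bc (σ : F →+* F) (S P : Matrix (Fin 3) (Fin 3) F) : Prop where
  sp : S * P = 1
  st : ∀ A : Matrix (Fin 3) (Fin 3) F, st σ (P * A * S) = P * (A.map σ)ᵀ * S

theorem Bc.ps {S P : Matrix (Fin 3) (Fin 3) F} (h : Bc σ S P) : P * S = 1 := mul_eq_one_comm.1 h.sp

/-- **the passage to `PSU_3(q)`** -/
theorem pp_of_cover (hσ : ∀ x, σ x = x ^ q) {S P x : Matrix (Fin 3) (Fin 3) F} (hS : Bc σ S P) (hx : US σ x)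
    {r : ℕ} (hr : r.Prime) (hr5 : 5 ≤ r) (hxr : x ^ r = 1) (hxs : ∃ y, US σ y ∧ y * x ≠ x * y)
    (hcov : ∀ g, US σ g → (∀ c : F, g ≠ c • (1 : Matrix (Fin 3) (Fin 3) F)) →
      ∃ z : F, z ^ 3 = 1 ∧ z * σ z = 1 ∧ Cv σ x (z • g)) : H494.TC.PP (PSU 3 F q) := by
  -- lifting
  have hup : ∀ A, US σ A → ∃ g : SU 3 F q, ((g : Matrix.SpecialLinearGroup (Fin 3) F) : Matrix (Fin 3) (Fin 3) F) = S * A * P := by
    intro A hA
    have hdet : (S * A * P).det = 1 := by
      rw [Matrix.det_mul, Matrix.det_mul, mul_right_comm, ← Matrix.det_mul, hS.sp, Matrix.det_one, hA.2, one_mul]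
    refine ⟨⟨⟨S * A * P, hdet⟩, mem_SU_of hσ _ ?_⟩, rfl⟩
    have h1 := hS.st (S * A * P)
    have h2 : P * (S * A * P) * S = A := by
      calc P * (S * A * P) * S = (P * S) * A * (P * S) := by simp only [Matrix.mul_assoc]
        _ = A := by rw [hS.ps, Matrix.one_mul, Matrix.mul_one]
    rw [h2] at h1
    show ((S * A * P).map σ)ᵀ * (S * A * P) = 1
    calc ((S * A * P).map σ)ᵀ * (S * A * P) = (S * P) * ((S * A * P).map σ)ᵀ * (S * P) * (S * A * P) := by
          rw [hS.sp, Matrix.one_mul, Matrix.mul_one]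
      _ = S * (P * ((S * A * P).map σ)ᵀ * S) * (P * S) * A * P := by simp only [Matrix.mul_assoc]
      _ = S * (st σ A * A) * P := by rw [← h1, hS.ps]; simp only [Matrix.mul_assoc, Matrix.one_mul]
      _ = 1 := by rw [hA.1, Matrix.mul_one, hS.sp]
  have hdown : ∀ g : SU 3 F q, US σ (P * ((g : Matrix.SpecialLinearGroup (Fin 3) F) : Matrix (Fin 3) (Fin 3) F) * S) := by
    intro g
    have h1 := of_mem_SU hσ g.2
    constructor
    · rw [hS.st]
      obtain ⟨G, hG⟩ : ∃ G, G = ((g : Matrix.SpecialLinearGroup (Fin 3) F) : Matrix (Fin 3) (Fin 3) F) := ⟨_, rfl⟩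
      rw [← hG] at h1 ⊢
      calc P * (G.map σ)ᵀ * S * (P * G * S) = P * (G.map σ)ᵀ * (S * P) * G * S := by simp only [Matrix.mul_assoc]
        _ = P * ((G.map σ)ᵀ * G) * S := by rw [hS.sp, Matrix.mul_one]; simp only [Matrix.mul_assoc]
        _ = 1 := by rw [h1, Matrix.mul_one, hS.ps]
    · rw [Matrix.det_mul, Matrix.det_mul, mul_right_comm, ← Matrix.det_mul, hS.ps, Matrix.det_one, one_mul]
      exact g.1.2
  have hext : ∀ a b : SU 3 F q, ((a : Matrix.SpecialLinearGroup (Fin 3) F) : Matrix (Fin 3) (Fin 3) F) =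
      ((b : Matrix.SpecialLinearGroup (Fin 3) F) : Matrix (Fin 3) (Fin 3) F) → a = b := fun a b h =>
    Subtype.ext (Subtype.ext h)
  obtain ⟨X, hX⟩ := hup x hx
  have hXr : X ^ r = 1 := by
    apply hext
    have h1 : ∀ n : ℕ, (((X ^ n : SU 3 F q) : Matrix.SpecialLinearGroup (Fin 3) F) : Matrix (Fin 3) (Fin 3) F) = S * x ^ n * P := by
      intro n
      induction n with
      | zero => rw [pow_zero, pow_zero, Matrix.mul_one, hS.sp]; rfl
      | succ n ih =>
        rw [pow_succ, pow_succ]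
        show (((X ^ n : SU 3 F q) : Matrix.SpecialLinearGroup (Fin 3) F) : Matrix (Fin 3) (Fin 3) F) *
          ((X : Matrix.SpecialLinearGroup (Fin 3) F) : Matrix (Fin 3) (Fin 3) F) = _
        rw [ih, hX]
        calc S * x ^ n * P * (S * x * P) = S * x ^ n * (P * S) * x * P := by simp only [Matrix.mul_assoc]
          _ = S * (x ^ n * x) * P := by rw [hS.ps, Matrix.mul_one]; simp only [Matrix.mul_assoc]
    rw [h1, hxr, Matrix.mul_one, hS.sp]
    rfl
  have hXc : X ∉ Subgroup.center (SU 3 F q) := by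
    intro hc
    obtain ⟨y, hy, hyx⟩ := hxs
    obtain ⟨Y, hY⟩ := hup y hy
    have h1 := Subgroup.mem_center_iff.1 hc Y
    have h2 := congrArg (fun a : SU 3 F q => ((a : Matrix.SpecialLinearGroup (Fin 3) F) : Matrix (Fin 3) (Fin 3) F)) h1
    have h3 : S * y * P * (S * x * P) = S * x * P * (S * y * P) := by rw [← hX, ← hY]; exact h2
    apply hyx
    calc y * x = (P * S) * y * (P * S) * x * (P * S) := by
          rw [hS.ps, Matrix.one_mul, Matrix.mul_one, Matrix.mul_one]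
      _ = P * (S * y * P * (S * x * P)) * S := by simp only [Matrix.mul_assoc]
      _ = P * (S * x * P * (S * y * P)) * S := by rw [h3]
      _ = (P * S) * x * (P * S) * y * (P * S) := by simp only [Matrix.mul_assoc]
      _ = x * y := by rw [hS.ps, Matrix.one_mul, Matrix.mul_one, Matrix.mul_one]
  have hord : orderOf (QuotientGroup.mk X : PSU 3 F q) = r := by
    have : Fact r.Prime := ⟨hr⟩
    apply orderOf_eq_prime
    · rw [← QuotientGroup.mk_pow, hXr, QuotientGroup.mk_one]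
    · rw [ne_eq, QuotientGroup.eq_one_iff]
      exact hXc
  refine ⟨QuotientGroup.mk X, by rw [hord]; exact hr, ?_, ?_⟩
  · rw [hord]
    have h1 : ¬ r ∣ 6 := by
      intro hd
      have h2 : r ∣ 2 * 3 := hd
      rcases (Nat.Prime.dvd_mul hr).1 h2 with h3 | h3
      · have := Nat.le_of_dvd (by norm_num) h3; omega
      · have := Nat.le_of_dvd (by norm_num) h3; omega
    exact (Nat.Prime.coprime_iff_not_dvd hr).2 h1
  · intro t ht
    obtain ⟨g, rfl⟩ := QuotientGroup.mk_surjective t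
    have hgc : g ∉ Subgroup.center (SU 3 F q) := fun h => ht ((QuotientGroup.eq_one_iff g).2 h)
    obtain ⟨G, hG⟩ : ∃ G, G = P * ((g : Matrix.SpecialLinearGroup (Fin 3) F) : Matrix (Fin 3) (Fin 3) F) * S := ⟨_, rfl⟩
    have hGU : US σ G := by rw [hG]; exact hdown g
    have hgG : ((g : Matrix.SpecialLinearGroup (Fin 3) F) : Matrix (Fin 3) (Fin 3) F) = S * G * P := by
      rw [hG]
      calc ((g : Matrix.SpecialLinearGroup (Fin 3) F) : Matrix (Fin 3) (Fin 3) F)
          = (S * P) * ((g : Matrix.SpecialLinearGroup (Fin 3) F) : Matrix (Fin 3) (Fin 3) F) * (S * P) := by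
            rw [hS.sp, Matrix.one_mul, Matrix.mul_one]
        _ = _ := by simp only [Matrix.mul_assoc]
    have hGs : ∀ c : F, G ≠ c • (1 : Matrix (Fin 3) (Fin 3) F) := by
      intro c hc
      apply hgc
      rw [Subgroup.mem_center_iff]
      intro k
      apply hext
      show ((k : Matrix.SpecialLinearGroup (Fin 3) F) : Matrix (Fin 3) (Fin 3) F) *
          ((g : Matrix.SpecialLinearGroup (Fin 3) F) : Matrix (Fin 3) (Fin 3) F) =
        ((g : Matrix.SpecialLinearGroup (Fin 3) F) : Matrix (Fin 3) (Fin 3) F) *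
          ((k : Matrix.SpecialLinearGroup (Fin 3) F) : Matrix (Fin 3) (Fin 3) F)
      rw [hgG, hc, Matrix.mul_smul, Matrix.smul_mul, Matrix.mul_one, hS.sp, Matrix.mul_smul, Matrix.smul_mul,
        Matrix.mul_one, Matrix.one_mul]
    obtain ⟨z, hz3, hzz, A, B, ⟨T, hT, hTd, hTA⟩, ⟨U, hU, hUd, hUB⟩, hAB⟩ := hcov G hGU hGs
    have hTU : US σ T := ⟨hT, hTd⟩
    have hUU : US σ U := ⟨hU, hUd⟩
    obtain ⟨t', ht'⟩ := hup T hTU
    obtain ⟨u', hu'⟩ := hup U hUU
    obtain ⟨w, hw⟩ := hup (z • (1 : Matrix (Fin 3) (Fin 3) F)) ⟨by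
      rw [st_smul, st_one, Matrix.smul_mul, Matrix.one_mul, smul_smul, mul_comm, hzz, one_smul], by
      rw [Matrix.det_smul, Fintype.card_fin, hz3, Matrix.det_one, one_mul]⟩
    have hw' : ((w : Matrix.SpecialLinearGroup (Fin 3) F) : Matrix (Fin 3) (Fin 3) F) = z • (1 : Matrix (Fin 3) (Fin 3) F) := by
      rw [hw, Matrix.mul_smul, Matrix.smul_mul, Matrix.mul_one, hS.sp]
    have hwc : w ∈ Subgroup.center (SU 3 F q) := by
      rw [Subgroup.mem_center_iff]
      intro k
      apply hext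
      show ((k : Matrix.SpecialLinearGroup (Fin 3) F) : Matrix (Fin 3) (Fin 3) F) *
          ((w : Matrix.SpecialLinearGroup (Fin 3) F) : Matrix (Fin 3) (Fin 3) F) =
        ((w : Matrix.SpecialLinearGroup (Fin 3) F) : Matrix (Fin 3) (Fin 3) F) *
          ((k : Matrix.SpecialLinearGroup (Fin 3) F) : Matrix (Fin 3) (Fin 3) F)
      rw [hw', Matrix.mul_smul, Matrix.smul_mul, Matrix.mul_one, Matrix.one_mul]
    -- the equation in `SU_3(q)`
    have hA' : A = T * x * st σ T := by rw [hTA, Matrix.mul_assoc, hTU.mul_st, Matrix.mul_one]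
    have hB' : B = U * x * st σ U := by rw [hUB, Matrix.mul_assoc, hUU.mul_st, Matrix.mul_one]
    have hcancel : ∀ M N : Matrix (Fin 3) (Fin 3) F, S * M * P * (S * N * P) = S * (M * N) * P := by
      intro M N
      calc S * M * P * (S * N * P) = S * M * (P * S) * N * P := by simp only [Matrix.mul_assoc]
        _ = S * (M * N) * P := by rw [hS.ps, Matrix.mul_one]; simp only [Matrix.mul_assoc]
    have hinv : ∀ (k : SU 3 F q) (M : Matrix (Fin 3) (Fin 3) F), US σ M →
        ((k : Matrix.SpecialLinearGroup (Fin 3) F) : Matrix (Fin 3) (Fin 3) F) = S * M * P →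
        (((k⁻¹ : SU 3 F q) : Matrix.SpecialLinearGroup (Fin 3) F) : Matrix (Fin 3) (Fin 3) F) = S * st σ M * P := by
      intro k M hM hk
      have h1 : ((k : Matrix.SpecialLinearGroup (Fin 3) F) : Matrix (Fin 3) (Fin 3) F) *
          (((k⁻¹ : SU 3 F q) : Matrix.SpecialLinearGroup (Fin 3) F) : Matrix (Fin 3) (Fin 3) F) = 1 := by
        have := congrArg (fun a : SU 3 F q => ((a : Matrix.SpecialLinearGroup (Fin 3) F) : Matrix (Fin 3) (Fin 3) F))
          (mul_inv_cancel k)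
        exact this
      have h2 : (S * st σ M * P) * ((k : Matrix.SpecialLinearGroup (Fin 3) F) : Matrix (Fin 3) (Fin 3) F) = 1 := by
        rw [hk, hcancel, hM.1, Matrix.mul_one, hS.sp]
      calc (((k⁻¹ : SU 3 F q) : Matrix.SpecialLinearGroup (Fin 3) F) : Matrix (Fin 3) (Fin 3) F)
          = (S * st σ M * P) * ((k : Matrix.SpecialLinearGroup (Fin 3) F) : Matrix (Fin 3) (Fin 3) F) *
            (((k⁻¹ : SU 3 F q) : Matrix.SpecialLinearGroup (Fin 3) F) : Matrix (Fin 3) (Fin 3) F) := by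
            rw [h2, Matrix.one_mul]
        _ = S * st σ M * P := by rw [Matrix.mul_assoc (S * st σ M * P), h1, Matrix.mul_one]
    have key : w * g = (t' * X * t'⁻¹) * (u' * X * u'⁻¹) := by
      apply hext
      show ((w : Matrix.SpecialLinearGroup (Fin 3) F) : Matrix (Fin 3) (Fin 3) F) *
          ((g : Matrix.SpecialLinearGroup (Fin 3) F) : Matrix (Fin 3) (Fin 3) F) =
        (((t' : Matrix.SpecialLinearGroup (Fin 3) F) : Matrix (Fin 3) (Fin 3) F) *
          ((X : Matrix.SpecialLinearGroup (Fin 3) F) : Matrix (Fin 3) (Fin 3) F) *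
          (((t'⁻¹ : SU 3 F q) : Matrix.SpecialLinearGroup (Fin 3) F) : Matrix (Fin 3) (Fin 3) F)) *
        (((u' : Matrix.SpecialLinearGroup (Fin 3) F) : Matrix (Fin 3) (Fin 3) F) *
          ((X : Matrix.SpecialLinearGroup (Fin 3) F) : Matrix (Fin 3) (Fin 3) F) *
          (((u'⁻¹ : SU 3 F q) : Matrix.SpecialLinearGroup (Fin 3) F) : Matrix (Fin 3) (Fin 3) F))
      rw [hinv t' T hTU ht', hinv u' U hUU hu', ht', hu', hX, hw', hgG, hcancel, hcancel, hcancel, hcancel, hcancel,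
        ← hA', ← hB', ← hAB, Matrix.smul_mul, Matrix.one_mul, Matrix.mul_smul, Matrix.smul_mul]
    refine ⟨QuotientGroup.mk t', QuotientGroup.mk u', ?_⟩
    have h1 : (QuotientGroup.mk g : PSU 3 F q) = QuotientGroup.mk (w * g) := by
      rw [QuotientGroup.mk_mul, (QuotientGroup.eq_one_iff w).2 hwc, one_mul]
    rw [h1, key]
    rfl

end Cfsg.Agent.H3.TC
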