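import Cfsg.Agent.H3.TC.Cover
import Cfsg.Agent.H3.TC.Up

/-!
# `PP (PSU 3 F q)` for `q` prime to 6 (helper3)
-/

set_option autoImplicit false

namespace Cfsg.Agent.H3.TC

open Matrix Cfsg

universe u

variable {F : Type u} [Field F] [Fintype F] {q : ℕ} {σ : F →+* F}

/-- the basis change in odd characteristic -/
theorem bc_odd (hσ2 : ∀ x, σ (σ x) = x) {k h : F} (hk : k * σ k = -1) (hh : 2 * h = 1) (hσh : σ h = h) :
    Bc σ !![1, 0, h; k, 0, -(h * k); 0, 1, 0] !![h, -(h * σ k), 0; 0, 0, 1; 1, σ k, 0] := by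
  have hS : (!![1, 0, h; k, 0, -(h * k); 0, 1, 0] : Matrix (Fin 3) (Fin 3) F) *
      !![h, -(h * σ k), 0; 0, 0, 1; 1, σ k, 0] = 1 := by
    ext i j
    fin_cases i <;> fin_cases j <;> simp [Matrix.mul_apply, Fin.sum_univ_three]
    · linear_combination hh
    · ring
    · linear_combination (-2 * h) * hk + hh
  refine ⟨hS, fun A => ?_⟩
  have e1 : st σ (!![1, 0, h; k, 0, -(h * k); 0, 1, 0] : Matrix (Fin 3) (Fin 3) F) =
      !![0, -(h * σ k), h; 1, 0, 0; 0, σ k, 1] := by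
    rw [st_of]
    ext i j
    fin_cases i <;> fin_cases j <;> simp [hσh]
  have e2 : st σ (!![h, -(h * σ k), 0; 0, 0, 1; 1, σ k, 0] : Matrix (Fin 3) (Fin 3) F) =
      !![0, 1, 0; k, 0, -(h * k); 1, 0, h] := by
    rw [st_of]
    ext i j
    fin_cases i <;> fin_cases j <;> simp [hσh, hσ2]
  have e3 : st σ A = !![σ (A 2 2), σ (A 1 2), σ (A 0 2); σ (A 2 1), σ (A 1 1), σ (A 0 1);
      σ (A 2 0), σ (A 1 0), σ (A 0 0)] := by
    conv_lhs => rw [Matrix.eta_fin_three A]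
    rw [st_of]
  have e4 : (A.map σ)ᵀ = !![σ (A 0 0), σ (A 1 0), σ (A 2 0); σ (A 0 1), σ (A 1 1), σ (A 2 1);
      σ (A 0 2), σ (A 1 2), σ (A 2 2)] := by
    ext i j
    fin_cases i <;> fin_cases j <;> rfl
  rw [st_mul, st_mul, e1, e2, e3, e4]
  ext i j
  fin_cases i <;> fin_cases j <;>
    simp [Matrix.mul_apply, Fin.sum_univ_three] <;> ring

omit [Fintype F] in
/-- powers of `x₀` -/
theorem x₀_pow (h2 : (2 : F) ≠ 0) (n : ℕ) : (x₀ σ) ^ n = uU σ (n : F) (-((n : F) ^ 2) / 2) := by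
  induction n with
  | zero =>
    rw [pow_zero, uU]
    ext i j
    fin_cases i <;> fin_cases j <;> simp
  | succ n ih =>
    rw [pow_succ, ih, x₀, uU_mul, Nat.cast_succ, map_natCast]
    congr 1
    field_simp
    ring

theorem pp_psu_three_six (hF : Fintype.card F = q ^ 2) {p : ℕ} (hp : p.Prime) [CharP F p] (h5 : 5 ≤ p) :
    H494.TC.PP (PSU 3 F q) := by
  have h2 : (2 : F) ≠ 0 := by
    intro h
    have h1 : ((2 : ℕ) : F) = 0 := by exact_mod_cast h
    rw [CharP.cast_eq_zero_iff F p] at h1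
    have := Nat.le_of_dvd (by norm_num) h1
    omega
  have h3 : (3 : F) ≠ 0 := by
    intro h
    have h1 : ((3 : ℕ) : F) = 0 := by exact_mod_cast h
    rw [CharP.cast_eq_zero_iff F p] at h1
    have := Nat.le_of_dvd (by norm_num) h1
    omega
  let σ : F →+* F := (LieClassical.HermBasic.conj hF : F →+* F)
  have hσ : ∀ x, σ x = x ^ q := fun x => LieClassical.HermBasic.conj_apply hF x
  have hσ2 : ∀ x, σ (σ x) = x := fun x => by
    rw [hσ, hσ]; exact LieClassical.HermBasic.pow_q_pow_q hF x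
  have hq : 3 ≤ q := by
    have := LieClassical.HermBasic.two_le hF
    by_contra hcon
    have hq2 : q = 2 := by omega
    have : Fact p.Prime := ⟨hp⟩
    obtain ⟨a, -, ha⟩ := FiniteField.card F p
    rw [hF, hq2] at ha
    have h1 : p ∣ 2 ^ 2 := by rw [ha]; exact dvd_pow_self p a.2.ne'
    have h4 := (Nat.prime_dvd_prime_iff_eq hp Nat.prime_two).1 (hp.dvd_of_dvd_pow h1)
    omega
  obtain ⟨k, hk⟩ := LieClassical.HermBasic.exists_norm_eq hF (c := (-1 : F)) (by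
    rw [← hσ, map_neg, map_one])
  rw [← hσ] at hk
  have hσh : σ (2⁻¹ : F) = 2⁻¹ := by rw [map_inv₀, map_ofNat]
  refine pp_of_cover hσ (bc_odd hσ2 hk (mul_inv_cancel₀ h2) hσh) (us_x₀ h2 hσ2) hp h5 ?_ ?_ ?_
  · rw [x₀_pow h2, CharP.cast_eq_zero, uU]
    ext i j
    fin_cases i <;> fin_cases j <;> simp
  · refine ⟨wW, us_wW, fun h => ?_⟩
    have h1 := congrFun (congrFun h 0) 0
    rw [x₀, uU, wW] at h1
    simp [Matrix.mul_apply, Fin.sum_univ_three] at h1
    exact h2 h1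
  · intro g hg hs
    exact cover hF hσ hσ2 hq h2 h3 hg hs

end Cfsg.Agent.H3.TC
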