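import Cfsg.Agent.H3.TC.Tab

/-!
# `PSU_3(4)`: products of two conjugates of an element of order `13` (helper3)
-/

set_option autoImplicit false

namespace Cfsg.Agent.H3.TC

open Matrix Cfsg

section even

variable {F : Type*} [Field F] {σ : F →+* F}

/-- the basis change in characteristic `2` -/
theorem bc_two (h2 : (2 : F) = 0) (hσ2 : ∀ x, σ (σ x) = x) {w : F} (hw : w + σ w = 1) :
    Bc σ !![1, 0, w; 0, 1, 0; 1, 0, σ w] !![σ w, 0, w; 0, 1, 0; 1, 0, 1] := by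
  have hS : (!![1, 0, w; 0, 1, 0; 1, 0, σ w] : Matrix (Fin 3) (Fin 3) F) * !![σ w, 0, w; 0, 1, 0; 1, 0, 1] = 1 := by
    ext i j
    fin_cases i <;> fin_cases j <;> simp [Matrix.mul_apply, Fin.sum_univ_three]
    · linear_combination hw
    · linear_combination w * h2
    · linear_combination σ w * h2
    · linear_combination hw
  refine ⟨hS, fun A => ?_⟩
  have e1 : st σ (!![1, 0, w; 0, 1, 0; 1, 0, σ w] : Matrix (Fin 3) (Fin 3) F) = !![w, 0, σ w; 0, 1, 0; 1, 0, 1] := by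
    rw [st_of]
    ext i j
    fin_cases i <;> fin_cases j <;> simp [hσ2]
  have e2 : st σ (!![σ w, 0, w; 0, 1, 0; 1, 0, 1] : Matrix (Fin 3) (Fin 3) F) = !![1, 0, σ w; 0, 1, 0; 1, 0, w] := by
    rw [st_of]
    ext i j
    fin_cases i <;> fin_cases j <;> simp [hσ2]
  have e3 : st σ A = !![σ (A 2 2), σ (A 1 2), σ (A 0 2); σ (A 2 1), σ (A 1 1), σ (A 0 1);
      σ (A 2 0), σ (A 1 0), σ (A 0 0)] := by
    conv_lhs => rw [Matrix.eta_fin_three A]
    rw [st_of]
  have e4 : (A.map σ)ᵀ = !![σ (A 0 0), σ (A 1 0), σ (A 2 0); σ (A 0 1), σ (A 1 1), σ (A 2 1);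
      σ (A 0 2), σ (A 1 2), σ (A 2 2)] := by
    ext i j
    fin_cases i <;> fin_cases j <;> rfl
  rw [st_mul, st_mul, e1, e2, e3, e4]
  ext i j
  fin_cases i <;> fin_cases j <;>
    simp [Matrix.mul_apply, Fin.sum_univ_three] <;> ring

/-- nonscalar elements move an isotropic vector off its orthogonal space, characteristic `2` -/
theorem exists_iso_two (h2 : (2 : F) = 0) (hσ2 : ∀ x, σ (σ x) = x) {w l : F} (hw : w + σ w = 1) (hl : σ l = l)
    (hl0 : l ≠ 0) (hl1 : l ≠ 1) {g : Matrix (Fin 3) (Fin 3) F} (hs : ∀ c : F, g ≠ c • (1 : Matrix (Fin 3) (Fin 3) F)) :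
    ∃ e : Fin 3 → F, Bf σ e e = 0 ∧ Bf σ (g *ᵥ e) e ≠ 0 := by
  by_contra hcon
  push Not at hcon
  have key : ∀ x y : F, y + σ y + x * σ x = 0 →
      (g 0 0 + g 0 1 * x + g 0 2 * y) * σ y + (g 1 0 + g 1 1 * x + g 1 2 * y) * σ x +
        (g 2 0 + g 2 1 * x + g 2 2 * y) = 0 := by
    intro x y hxy
    have := hcon ![1, x, y] (by simp [Bf]; linear_combination hxy)
    simpa [Bf, Matrix.mulVec, dotProduct, Fin.sum_univ_three] using this
  have k0 : g 2 0 = 0 := by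
    have := key 0 0 (by simp)
    simpa using this
  have k1 : g 0 2 = 0 := by
    have := hcon ![0, 0, 1] (by simp [Bf])
    simpa [Bf, Matrix.mulVec, dotProduct, Fin.sum_univ_three] using this
  have k2 : g 2 2 = g 0 0 := by
    have h5 := key 0 1 (by rw [map_one, map_zero]; linear_combination h2)
    rw [k0, k1, map_one, map_zero] at h5
    linear_combination h5 - g 0 0 * h2
  have hσw : σ w = 1 - w := by linear_combination hw
  have m1 := key 1 w (by rw [map_one]; linear_combination hw + h2)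
  have m2 := key 1 (w + 1) (by rw [map_add, map_one]; linear_combination hw + 2 * h2)
  have m3 := key w (w * σ w * w) (by
    rw [map_mul, map_mul, hσ2]; linear_combination (w * σ w) * hw + w * σ w * h2)
  have m4 := key w (w * σ w * w + 1) (by
    rw [map_add, map_one, map_mul, map_mul, hσ2]; linear_combination (w * σ w) * hw + (w * σ w + 1) * h2)
  have m5 := key l (l ^ 2 * w) (by
    rw [map_mul, map_pow, hl]; linear_combination l ^ 2 * hw + l ^ 2 * h2)
  simp only [map_add, map_mul, map_pow, map_one, hσ2, hl, k0, k1, k2] at m1 m2 m3 m4 m5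
  have n1 : g 0 1 + g 1 2 = 0 := by linear_combination m2 - m1 - g 0 0 * h2
  have n2 : g 0 1 * w + g 1 2 * σ w = 0 := by linear_combination m4 - m3 - g 0 0 * h2
  have n3 : g 0 1 = 0 := by linear_combination n2 - σ w * n1 + g 0 1 * σ w * h2 - g 0 1 * hw
  have n4 : g 1 2 = 0 := by linear_combination n1 - n3
  rw [n3, n4] at m1 m3 m5
  have p1 : (g 0 0 + g 1 1) + g 1 0 + g 2 1 = 0 := by linear_combination m1 - g 0 0 * hw
  have p3 : (g 0 0 + g 1 1) * (w * σ w) + g 1 0 * σ w + g 2 1 * w = 0 := by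
    linear_combination m3 - g 0 0 * (w * σ w) * hw
  have p5 : (g 0 0 + g 1 1) * l ^ 2 + g 1 0 * l + g 2 1 * l = 0 := by
    linear_combination m5 - g 0 0 * l ^ 2 * hw
  have q1 : g 0 0 + g 1 1 = 0 := by
    have h6 : l * (l - 1) * (g 0 0 + g 1 1) = 0 := by linear_combination p5 - l * p1
    exact (mul_eq_zero.1 h6).resolve_left (mul_ne_zero hl0 (sub_ne_zero.2 hl1))
  have q2 : g 1 0 = 0 := by
    have h7 : g 2 1 = -g 1 0 := by linear_combination p1 - q1
    rw [q1, h7] at p3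
    linear_combination p3 + g 1 0 * w * h2 - g 1 0 * hw
  have q3 : g 2 1 = 0 := by linear_combination p1 - q1 - q2
  have q4 : g 1 1 = g 0 0 := by linear_combination q1 - g 0 0 * h2
  apply hs (g 0 0)
  ext i j
  fin_cases i <;> fin_cases j <;> simp [k0, k1, k2, n3, n4, q2, q3, q4]

end even

/-- the field with four elements -/
abbrev K4 : Type := QuadraticAlgebra (ZMod 2) 1 1

namespace K4

instance hab : Fact (∀ r : ZMod 2, r ^ 2 ≠ 1 + 1 * r) := ⟨by decide⟩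

instance fin : Fintype K4 := Fintype.ofEquiv (ZMod 2 × ZMod 2) (QuadraticAlgebra.equivProd 1 1).symm

def of (n : ℕ) : K4 := ⟨(Fin.ofNat 2 n : Fin 2), (Fin.ofNat 2 (n / 2) : Fin 2)⟩

theorem card : Fintype.card K4 = 4 := by
  rw [Fintype.card_congr (QuadraticAlgebra.equivProd (1 : ZMod 2) 1), Fintype.card_prod, ZMod.card]

end K4

/-- the field with sixteen elements -/
abbrev K16 : Type := QuadraticAlgebra K4 (K4.of 2) (K4.of 1)

namespace K16

instance hab : Fact (∀ r : K4, r ^ 2 ≠ K4.of 2 + K4.of 1 * r) := ⟨by decide +kernel⟩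

instance fin : Fintype K16 := Fintype.ofEquiv (K4 × K4) (QuadraticAlgebra.equivProd (K4.of 2) (K4.of 1)).symm

def of (n : ℕ) : K16 := ⟨K4.of n, K4.of (n / 4)⟩

def s (x : K16) : K16 := ⟨x.re + x.im, -x.im⟩

theorem card : Fintype.card K16 = 4 ^ 2 := by
  rw [Fintype.card_congr (QuadraticAlgebra.equivProd (K4.of 2) (K4.of 1)), Fintype.card_prod, K4.card]; rfl

theorem s_eq : ∀ x : K16, s x = x ^ 4 := by decide +kernel

end K16

def X4 : List ℕ := [5, 10, 1, 12, 9, 13, 6, 8, 7]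
def t4 : ℕ := 11
def tabA4 : List (List ℕ) := [[0, 4, 1, 5, 10, 9, 2, 1, 13, 6],
  [1, 3, 7, 7, 14, 5, 15, 8, 3, 13],
  [2, 11, 13, 8, 5, 2, 2, 7, 3, 2],
  [3, 11, 1, 14, 3, 6, 15, 10, 8, 6],
  [4, 4, 8, 1, 5, 4, 9, 2, 2, 11],
  [5, 12, 2, 13, 4, 13, 12, 15, 0, 10],
  [6, 11, 9, 10, 5, 11, 9, 7, 5, 11],
  [7, 3, 6, 4, 12, 15, 15, 5, 9, 7],
  [8, 7, 8, 15, 15, 7, 6, 10, 5, 11],
  [9, 6, 15, 8, 15, 4, 4, 3, 1, 9],
  [10, 1, 2, 13, 5, 11, 6, 10, 11, 1],
  [11, 3, 4, 13, 1, 9, 12, 10, 3, 1],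
  [12, 6, 15, 8, 13, 2, 14, 12, 3, 15],
  [13, 14, 15, 8, 11, 4, 4, 4, 14, 1],
  [14, 9, 8, 13, 15, 1, 5, 2, 0, 3],
  [15, 12, 4, 11, 0, 14, 7, 4, 8, 9]]
def tabB4 : List (List ℕ) := [[1, 1, 1, 14, 11, 10, 12, 11, 5, 8, 15, 14],
  [8, 6, 11, 14, 14, 12, 13, 7, 8, 5, 4, 2],
  [10, 7, 9, 6, 7, 3, 10, 9, 7, 10, 4, 4],
  [13, 5, 15, 9, 0, 7, 2, 10, 1, 5, 11, 8],
  [14, 4, 12, 3, 3, 14, 1, 0, 6, 9, 11, 8]]

theorem chkA4 : ∀ l ∈ tabA4, chk1 K16.of K16.s (K16.of t4) (mk9 K16.of X4) l = true := by decide +kernel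
theorem chkB4 : ∀ l ∈ tabB4, chk2 K16.of K16.s (K16.of t4) l = true := by decide +kernel
theorem okX4 : M3.Ok K16.s (K16.of t4) (mk9 K16.of X4) := by decide +kernel

theorem pp_K16 : H494.TC.PP (PSU 3 K16 4) := by
  have h2 : (2 : K16) = 0 := by decide +kernel
  have hs : ∀ σ : K16 →+* K16, (∀ x, σ x = x ^ 4) → ∀ x, σ x = K16.s x := fun σ hσ x => by rw [hσ, K16.s_eq]
  have hss : ∀ x, K16.s (K16.s x) = x := by decide +kernel
  refine pp_of_tab K16.card (by norm_num) (k := 3) (by norm_num) K16.s K16.s_eq K16.of okX4 chkA4 chkB4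
    (by decide +kernel) (by decide +kernel) (fun σ hσ => ?_) (fun σ hσ g hg => ?_) (r := 13) (by norm_num) (by norm_num)
    (by decide +kernel) (by decide +kernel)
  · exact ⟨_, _, bc_two h2 (fun x => by rw [hs σ hσ, hs σ hσ, hss]) (w := K16.of 4)
      (by rw [hs σ hσ]; decide +kernel)⟩
  · exact exists_iso_two h2 (fun x => by rw [hs σ hσ, hs σ hσ, hss]) (w := K16.of 4) (l := K16.of 2)
      (by rw [hs σ hσ]; decide +kernel) (by rw [hs σ hσ]; decide +kernel) (by decide +kernel) (by decide +kernel) hg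

theorem pp_psu_three_four {F : Type*} [Field F] [Fintype F] (hF : Fintype.card F = 16) : H494.TC.PP (PSU 3 F 4) :=
  H494.TC.PP.of_equiv (LieClassical.FieldTransfer.psuCongr 3 4 (FiniteField.ringEquivOfCardEq (K := F) (K' := K16)
    (by rw [K16.card, hF]; norm_num))) pp_K16

end Cfsg.Agent.H3.TC
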