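import Cfsg.Agent.H3.TC.U39
import Cfsg.Agent.H3.TC.U4
import Cfsg.Agent.H950.TC.PsuThree

/-!
# `PSU_3(q)`, `q ≥ 3`: products of two conjugates of an element of prime order `≥ 5` (helper3; S2464, S2452)
-/

set_option autoImplicit false

namespace Cfsg.Agent.H3.TC

open Matrix Cfsg

universe u

theorem three_pow_mod (b : ℕ) : 3 ^ b % 8 = 1 ∨ 3 ^ b % 8 = 3 := by
  induction b with
  | zero => left; rfl
  | succ b ih =>
    rw [pow_succ]
    omega

/-- `2 ^ m - 1` without prime divisors `≥ 5` -/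
theorem two_pow_case {m : ℕ} (hm : 3 ≤ 2 ^ m) (h : ∀ r : ℕ, r.Prime → 5 ≤ r → ¬ r ∣ 2 ^ m - 1) : 2 ^ m = 4 := by
  have hm2 : 2 ≤ m := by
    by_contra hc
    have : m = 0 ∨ m = 1 := by omega
    rcases this with rfl | rfl <;> omega
  have hodd : ¬ 2 ∣ 2 ^ m - 1 := by
    have h1 : 2 ∣ 2 ^ m := dvd_pow_self 2 (by omega)
    omega
  have h3 : ∀ {d : ℕ}, d.Prime → d ∣ 2 ^ m - 1 → d = 3 := by
    intro d hd hdd
    by_contra hne
    rcases Nat.lt_or_ge d 5 with h5 | h5
    · have h2 := hd.two_le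
      have : d = 2 ∨ d = 4 := by omega
      rcases this with rfl | rfl
      · exact hodd hdd
      · exact absurd hd (by norm_num)
    · exact h d hd h5 hdd
  have h4 := Nat.eq_prime_pow_of_unique_prime_dvd (n := 2 ^ m - 1) (p := 3) (by omega) h3
  obtain ⟨b, hb⟩ : ∃ b, 2 ^ m - 1 = 3 ^ b := ⟨_, h4⟩
  rcases Nat.lt_or_ge m 3 with h5 | h5
  · have : m = 2 := by omega
    subst this
    rfl
  · obtain ⟨j, rfl⟩ : ∃ j, m = j + 3 := ⟨m - 3, by omega⟩
    have h6 := three_pow_mod b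
    have h7 : 2 ^ (j + 3) = 8 * 2 ^ j := by rw [pow_add]; ring
    have h8 : 0 < 2 ^ j := by positivity
    omega

/-- `3 ^ m - 1` without prime divisors `≥ 5` -/
theorem three_pow_case {m : ℕ} (hm : 3 ≤ 3 ^ m) (h : ∀ r : ℕ, r.Prime → 5 ≤ r → ¬ r ∣ 3 ^ m - 1) :
    3 ^ m = 3 ∨ 3 ^ m = 9 := by
  have hm1 : 1 ≤ m := by
    by_contra hc
    have : m = 0 := by omega
    subst this
    omega
  have h3n : ¬ 3 ∣ 3 ^ m - 1 := by
    have h1 : 3 ∣ 3 ^ m := dvd_pow_self 3 (by omega)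
    omega
  have two_of : ∀ {n d : ℕ}, n ∣ 3 ^ m - 1 → d.Prime → d ∣ n → d = 2 := by
    intro n d hn hd hdd'
    have hdd := hdd'.trans hn
    by_contra hne
    rcases Nat.lt_or_ge d 5 with h5 | h5
    · have h2 := hd.two_le
      have : d = 3 ∨ d = 4 := by omega
      rcases this with rfl | rfl
      · exact h3n hdd
      · exact absurd hd (by norm_num)
    · exact h d hd h5 hdd
  rcases Nat.even_or_odd m with ⟨j, hj⟩ | hodd
  · -- `(3 ^ j - 1) (3 ^ j + 1)`
    right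
    have hj1 : 1 ≤ j := by omega
    have hsq : 3 ^ m = 3 ^ j * 3 ^ j := by rw [hj, pow_add]
    have h1 : 1 ≤ 3 ^ j := Nat.one_le_pow _ _ (by norm_num)
    have hfac : 3 ^ m - 1 = (3 ^ j - 1) * (3 ^ j + 1) := by
      rw [hsq]
      obtain ⟨t, ht⟩ : ∃ t, 3 ^ j = t + 1 := ⟨3 ^ j - 1, by omega⟩
      rw [ht]
      simp only [Nat.add_sub_cancel]
      have : (t + 1) * (t + 1) = t * (t + 1 + 1) + 1 := by ring
      omega
    have h3j : 3 ≤ 3 ^ j := by
      calc 3 = 3 ^ 1 := (pow_one 3).symm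
        _ ≤ 3 ^ j := Nat.pow_le_pow_right (by norm_num) hj1
    obtain ⟨a, ha⟩ : ∃ a, 3 ^ j - 1 = 2 ^ a := ⟨_, Nat.eq_prime_pow_of_unique_prime_dvd (by omega)
      (fun hd hdd => two_of (n := 3 ^ j - 1) ⟨_, hfac⟩ hd hdd)⟩
    obtain ⟨b, hb⟩ : ∃ b, 3 ^ j + 1 = 2 ^ b := ⟨_, Nat.eq_prime_pow_of_unique_prime_dvd (by omega)
      (fun hd hdd => two_of (n := 3 ^ j + 1) ⟨3 ^ j - 1, by rw [hfac, mul_comm]⟩ hd hdd)⟩
    -- two powers of two differing by two
    have hba : 2 ^ b = 2 ^ a + 2 := by omega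
    have ha1 : a = 1 := by
      rcases Nat.lt_or_ge a 2 with h5 | h5
      · have : a = 0 ∨ a = 1 := by omega
        rcases this with rfl | rfl
        · omega
        · rfl
      · exfalso
        have hb2 : 2 ≤ b := by
          by_contra hc
          have : b = 0 ∨ b = 1 := by omega
          rcases this with rfl | rfl <;> omega
        have h6 : 4 ∣ 2 ^ a := by
          obtain ⟨k, rfl⟩ : ∃ k, a = k + 2 := ⟨a - 2, by omega⟩
          exact ⟨2 ^ k, by rw [pow_add]; ring⟩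
        have h7 : 4 ∣ 2 ^ b := by
          obtain ⟨k, rfl⟩ : ∃ k, b = k + 2 := ⟨b - 2, by omega⟩
          exact ⟨2 ^ k, by rw [pow_add]; ring⟩
        omega
    rw [ha1] at ha
    have : 3 ^ j = 3 := by omega
    rw [hsq, this]
  · left
    obtain ⟨a, ha⟩ : ∃ a, 3 ^ m - 1 = 2 ^ a := ⟨_, Nat.eq_prime_pow_of_unique_prime_dvd (by omega)
      (fun hd hdd => two_of dvd_rfl hd hdd)⟩
    have h4 : 3 ^ m % 4 = 3 := by
      obtain ⟨j, rfl⟩ := hodd
      have : ∀ j : ℕ, 3 ^ (2 * j + 1) % 4 = 3 := by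
        intro j
        induction j with
        | zero => rfl
        | succ j ih =>
          have : 3 ^ (2 * (j + 1) + 1) = 9 * 3 ^ (2 * j + 1) := by rw [show 2 * (j + 1) + 1 = 2 + (2 * j + 1) by ring, pow_add]; norm_num
          rw [this]
          omega
      exact this j
    rcases Nat.lt_or_ge a 2 with h5 | h5
    · have : a = 0 ∨ a = 1 := by omega
      rcases this with rfl | rfl <;> omega
    · exfalso
      have h6 : 4 ∣ 2 ^ a := by
        obtain ⟨k, rfl⟩ : ∃ k, a = k + 2 := ⟨a - 2, by omega⟩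
        exact ⟨2 ^ k, by rw [pow_add]; ring⟩
      omega

/-- **the row `PSU_3(q)`, `q ≥ 3`** -/
theorem pp_psu_three_all {F : Type u} [Field F] [Fintype F] {q : ℕ} (hq : 3 ≤ q) (hF : Fintype.card F = q ^ 2) :
    H494.TC.PP (PSU 3 F q) := by
  by_cases hr : ∃ r : ℕ, r.Prime ∧ 5 ≤ r ∧ r ∣ q - 1
  · obtain ⟨r, hr, h5, hd⟩ := hr
    exact Cfsg.Agent.H950.TC.pp_psu_three hF hr h5 hd
  · push Not at hr
    obtain ⟨p, hc⟩ := CharP.exists F
    have hp : p.Prime := (CharP.char_is_prime_or_zero F p).resolve_right (CharP.char_ne_zero_of_finite F p)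
    have : Fact p.Prime := ⟨hp⟩
    obtain ⟨a, -, ha⟩ := FiniteField.card F p
    have hqd : q ∣ p ^ (a : ℕ) := by
      rw [← ha, hF]
      exact Dvd.intro_left (q ^ (2 - 1)) (by ring)
    obtain ⟨m, -, hm⟩ := (Nat.dvd_prime_pow hp).1 hqd
    rcases Nat.lt_or_ge p 5 with h5 | h5
    · have h2 := hp.two_le
      have h23 : p = 2 ∨ p = 3 ∨ p = 4 := by omega
      rcases h23 with rfl | rfl | rfl
      · have h4 := two_pow_case (m := m) (by omega) (fun r h1 h2 h3 => hr r h1 h2 (by rw [hm]; exact h3))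
        rw [h4] at hm
        subst hm
        exact pp_psu_three_four hF
      · rcases three_pow_case (m := m) (by omega) (fun r h1 h2 h3 => hr r h1 h2 (by rw [hm]; exact h3)) with h4 | h4
        · rw [h4] at hm
          subst hm
          exact pp_psu_three_three hF
        · rw [h4] at hm
          subst hm
          exact pp_psu_three_nine hF
      · exact absurd hp (by norm_num)
    · exact pp_psu_three_six hF hp h5

end Cfsg.Agent.H3.TC
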