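import Cfsg.Agent.H3.TC.Elt
import Mathlib.FieldTheory.Finite.Basic

/-!
# Every trace is the trace of a product of two conjugates of `x₀` with a cyclic vector (helper3)
-/

set_option autoImplicit false

namespace Cfsg.Agent.H3.TC

open Matrix Polynomial

variable {F : Type*} [Field F] {σ : F →+* F}

/-- binary quadratic equations over the fixed field -/
theorem exists_quad [Finite F] (h2 : (2 : F) ≠ 0) {α β γ : F} (hα : σ α = α) (hβ : σ β = β) (hγ : σ γ = γ)
    (hα0 : α ≠ 0) (hβ0 : β ≠ 0) : ∃ x y : F, σ x = x ∧ σ y = y ∧ α * x ^ 2 + β * y ^ 2 = γ := by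
  let K : Subfield F := RingHom.eqLocusField σ (RingHom.id F)
  let _ : Fintype K := Fintype.ofFinite K
  let a : K := ⟨α, hα⟩
  let b : K := ⟨β, hβ⟩
  let c : K := ⟨γ, hγ⟩
  have ha : a ≠ 0 := fun h => hα0 (congrArg Subtype.val h)
  have hb : b ≠ 0 := fun h => hβ0 (congrArg Subtype.val h)
  have hcard : Fintype.card K % 2 = 1 := by
    apply FiniteField.odd_card_of_char_ne_two
    intro h
    apply h2
    have h3 : ((ringChar K : ℕ) : K) = 0 := ringChar.Nat.cast_ringChar
    rw [h] at h3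
    have h4 := congrArg K.subtype h3
    rw [map_natCast, map_zero] at h4
    exact_mod_cast h4
  obtain ⟨x, y, hxy⟩ := FiniteField.exists_root_sum_quadratic (R := K) (f := C a * X ^ 2) (g := C b * X ^ 2 - C c)
    (by rw [degree_C_mul_X_pow _ ha]; rfl)
    (by
      rw [degree_sub_eq_left_of_degree_lt]
      · rw [degree_C_mul_X_pow _ hb]; rfl
      · rw [degree_C_mul_X_pow _ hb]
        exact lt_of_le_of_lt degree_C_le (by norm_num)) hcard
  refine ⟨x, y, x.2, y.2, ?_⟩
  have h5 := congrArg Subtype.val hxy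
  simp only [eval_mul, eval_C, eval_pow, eval_X, eval_sub] at h5
  have h6 : α * (x : F) ^ 2 + (β * (y : F) ^ 2 - γ) = 0 := h5
  linear_combination h6

/-- a point with `y ≠ 0` -/
theorem exists_quad_ne [Finite F] (h2 : (2 : F) ≠ 0) (h3 : (3 : F) ≠ 0) {A c : F} (hA : σ A = A) (hc : σ c = c)
    (hA0 : A ≠ 0) (hc0 : c ≠ 0) : ∃ s y : F, σ s = s ∧ σ y = y ∧ A + c * s ^ 2 = y ^ 2 ∧ y ≠ 0 := by
  obtain ⟨y, s, hy, hs, h⟩ := exists_quad (σ := σ) (α := 1) (β := -c) (γ := A) h2 (map_one σ) (by rw [map_neg, hc]) hA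
    one_ne_zero (neg_ne_zero.2 hc0)
  by_cases hy0 : y = 0
  · subst hy0
    have hs0 : s ≠ 0 := by
      rintro rfl
      apply hA0
      linear_combination -h
    obtain ⟨m, hm, hm0, hcm⟩ : ∃ m : F, σ m = m ∧ m ≠ 0 ∧ 1 - c * m ^ 2 ≠ 0 := by
      by_cases h1 : c = 1
      · refine ⟨2, map_ofNat σ 2, h2, ?_⟩
        rw [h1]
        have : (1 : F) - 1 * 2 ^ 2 = -3 := by norm_num
        rw [this]
        exact neg_ne_zero.2 h3
      · refine ⟨1, map_one σ, one_ne_zero, ?_⟩
        intro h4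
        apply h1
        linear_combination -h4
    refine ⟨-s * (1 + c * m ^ 2) / (1 - c * m ^ 2), -2 * c * m * s / (1 - c * m ^ 2), ?_, ?_, ?_, ?_⟩
    · simp only [map_div₀, map_mul, map_neg, map_add, map_sub, map_one, map_pow, hc, hm, hs]
    · simp only [map_div₀, map_mul, map_neg, map_sub, map_one, map_pow, hc, hm, hs, map_ofNat]
    · have hA' : A = -c * s ^ 2 := by linear_combination -h
      rw [hA']
      field_simp
      ring
    · apply div_ne_zero _ hcm
      exact mul_ne_zero (mul_ne_zero (mul_ne_zero (neg_ne_zero.2 h2) hc0) hm0) hs0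
  · exact ⟨s, y, hs, hy, by linear_combination -h, hy0⟩

/-- **every trace `t ≠ 3`** -/
theorem exists_tr [Finite F] (h2 : (2 : F) ≠ 0) (h3 : (3 : F) ≠ 0) (hσ2 : ∀ x, σ (σ x) = x) {δ : F} (hδ0 : δ ≠ 0)
    (hδ : σ δ = -δ) {t : F} (ht : t ≠ 3) : ∃ a b b' : F, a ≠ 0 ∧ (σ a = a ∨ σ a = -a) ∧ b + σ b + 1 = 0 ∧
      b' + σ b' + a * σ a = 0 ∧ 3 - a - σ a + b * b' = t ∧ -1 - a * b * (1 + b) ≠ 0 := by
  obtain ⟨h, hh⟩ : ∃ h : F, h = 2⁻¹ := ⟨_, rfl⟩
  have hh2 : 2 * h = 1 := by rw [hh, mul_inv_cancel₀ h2]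
  have hσh : σ h = h := by rw [hh, map_inv₀, map_ofNat]
  obtain ⟨t0, ht0⟩ : ∃ t0, t0 = h * (t + σ t) := ⟨_, rfl⟩
  obtain ⟨t1, ht1⟩ : ∃ t1, t1 = h * (t - σ t) * δ⁻¹ := ⟨_, rfl⟩
  have hσt0 : σ t0 = t0 := by rw [ht0, map_mul, hσh, map_add, hσ2, add_comm]
  have hσt1 : σ t1 = t1 := by
    rw [ht1, map_mul, map_mul, hσh, map_sub, hσ2, map_inv₀, hδ, inv_neg]
    ring
  have htt : t = t0 + t1 * δ := by
    rw [ht0, ht1]
    field_simp
    linear_combination -t * hh2
  -- `N(b) ≠ 0`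
  have hN : ∀ s : F, σ s = s → h ^ 2 - s ^ 2 * δ ^ 2 ≠ 0 := by
    intro s hs h0
    have h4 : (h - s * δ) * (h + s * δ) = 0 := by linear_combination h0
    have h5 : h = 0 := by
      rcases mul_eq_zero.1 h4 with h6 | h6
      · have h7 := congrArg σ h6
        rw [map_sub, map_mul, hσh, hs, hδ, map_zero] at h7
        have h8 : (2 : F) * h = 0 := by linear_combination h6 + h7
        exact (mul_eq_zero.1 h8).resolve_left h2
      · have h7 := congrArg σ h6
        rw [map_add, map_mul, hσh, hs, hδ, map_zero] at h7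
        have h8 : (2 : F) * h = 0 := by linear_combination h6 + h7
        exact (mul_eq_zero.1 h8).resolve_left h2
    rw [h5, mul_zero] at hh2
    exact zero_ne_one hh2
  by_cases h1 : t1 = 0
  · by_cases hm1 : t0 = -1
    · -- `t = -1`
      obtain ⟨S, k, hS, hk, hSk⟩ := exists_quad (σ := σ) (α := 1) (β := 1) (γ := (δ ^ 2)⁻¹) h2 (map_one σ) (map_one σ)
        (by rw [map_inv₀, map_pow, hδ, neg_sq]) one_ne_zero one_ne_zero
      have hSk' : (S ^ 2 + k ^ 2) * δ ^ 2 = 1 := by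
        have : S ^ 2 + k ^ 2 = (δ ^ 2)⁻¹ := by linear_combination hSk
        rw [this, inv_mul_cancel₀ (pow_ne_zero 2 hδ0)]
      have hk0 : k ≠ 0 := by
        rintro rfl
        have h4 : (S * δ - 1) * (S * δ + 1) = 0 := by linear_combination hSk'
        rcases mul_eq_zero.1 h4 with h6 | h6
        · have h7 := congrArg σ h6
          rw [map_sub, map_mul, hS, hδ, map_zero, map_one] at h7
          apply h2
          linear_combination -h6 - h7
        · have h7 := congrArg σ h6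
          rw [map_add, map_mul, hS, hδ, map_zero, map_one] at h7
          apply h2
          linear_combination h6 + h7
      -- `s = h S`, `a = 4 / (k δ)`
      obtain ⟨s, hs⟩ : ∃ s, s = h * S := ⟨_, rfl⟩
      obtain ⟨a, ha⟩ : ∃ a, a = 4 / (k * δ) := ⟨_, rfl⟩
      have h4 : (4 : F) ≠ 0 := by
        have : (4 : F) = 2 * 2 := by norm_num
        rw [this]
        exact mul_ne_zero h2 h2
      have ha0 : a ≠ 0 := by rw [ha]; exact div_ne_zero h4 (mul_ne_zero hk0 hδ0)
      have hσs : σ s = s := by rw [hs, map_mul, hσh, hS]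
      have hσa : σ a = -a := by
        rw [ha, map_div₀, map_mul, hk, hδ, map_ofNat]
        field_simp
      have hak : a * (k * δ) = 4 := by rw [ha, div_mul_cancel₀ _ (mul_ne_zero hk0 hδ0)]
      have hM : a ^ 2 * (h ^ 2 - s ^ 2 * δ ^ 2) = 4 := by
        have e1 : h ^ 2 - s ^ 2 * δ ^ 2 = h ^ 2 * (k * δ) ^ 2 := by
          rw [hs]
          linear_combination -h ^ 2 * hSk'
        rw [e1]
        have e2 : a ^ 2 * (h ^ 2 * (k * δ) ^ 2) = h ^ 2 * (a * (k * δ)) ^ 2 := by ring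
        rw [e2, hak]
        linear_combination (4 * (2 * h) + 4) * hh2
      refine ⟨a, -h + s * δ, -h * (a * σ a) - s * (a * σ a) * δ, ha0, Or.inr hσa, ?_, ?_, ?_, ?_⟩
      · rw [map_add, map_neg, map_mul, hσh, hσs, hδ]
        linear_combination -hh2
      · simp only [map_sub, map_neg, map_mul, hσh, hσs, hδ, hσ2]
        rw [hσa]
        linear_combination a ^ 2 * hh2
      · rw [hσa, htt, h1, hm1]
        linear_combination -hM
      · have e1 : -1 - a * (-h + s * δ) * (1 + (-h + s * δ)) = -1 + a * (h ^ 2 - s ^ 2 * δ ^ 2) := by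
          linear_combination a * (-h + s * δ) * hh2
        rw [e1]
        intro h0
        -- `a N(b) = 1` is impossible: it is antisymmetric
        have h5 := congrArg σ h0
        simp only [map_add, map_neg, map_one, map_mul, map_sub, map_pow, hσh, hσs, hδ, hσa, map_zero] at h5
        apply h2
        linear_combination -h0 - h5
    · -- `t = t0 ≠ 3, -1`
      have h30 : t0 ≠ 3 := by
        intro h4
        apply ht
        rw [htt, h1, h4, zero_mul, add_zero]
      obtain ⟨s, y, hs, hy, hsy, hy0⟩ := exists_quad_ne (σ := σ) h2 h3 (A := h ^ 2 * (t0 + 1)) (c := -(δ ^ 2 * (t0 - 3)))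
        (by rw [map_mul, map_pow, hσh, map_add, hσt0, map_one])
        (by rw [map_neg, map_mul, map_pow, hδ, map_sub, hσt0, map_ofNat]; ring)
        (mul_ne_zero (pow_ne_zero 2 (by rw [hh]; exact inv_ne_zero h2)) (fun h4 => hm1 (by linear_combination h4)))
        (neg_ne_zero.2 (mul_ne_zero (pow_ne_zero 2 hδ0) (sub_ne_zero.2 h30)))
      -- the sign of `y`
      obtain ⟨y, hy, hsy, hy0, hy1⟩ : ∃ y : F, σ y = y ∧ h ^ 2 * (t0 + 1) + -(δ ^ 2 * (t0 - 3)) * s ^ 2 = y ^ 2 ∧ y ≠ 0 ∧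
          1 + y ≠ 0 := by
        by_cases h4 : 1 + y = 0
        · refine ⟨-y, by rw [map_neg, hy], by rw [hsy]; ring, neg_ne_zero.2 hy0, fun h5 => h2 ?_⟩
          linear_combination h4 + h5
        · exact ⟨y, hy, hsy, hy0, h4⟩
      have hM0 := hN s hs
      obtain ⟨M, hM⟩ : ∃ M, M = h ^ 2 - s ^ 2 * δ ^ 2 := ⟨_, rfl⟩
      rw [← hM] at hM0
      have hyM : y ^ 2 = 1 + M * (t0 - 3) := by
        rw [← hsy, hM]
        linear_combination (2 * h + 1) * hh2
      obtain ⟨r, hr⟩ : ∃ r, r = (1 + y) / M := ⟨_, rfl⟩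
      have hr0 : r ≠ 0 := by rw [hr]; exact div_ne_zero hy1 hM0
      have hrM : r * M = 1 + y := by rw [hr, div_mul_cancel₀ _ hM0]
      have hσM : σ M = M := by
        rw [hM, map_sub, map_mul, map_pow, map_pow, map_pow, hσh, hs, hδ]; ring
      have hσr : σ r = r := by rw [hr, map_div₀, map_add, map_one, hy, hσM]
      refine ⟨r, -h + s * δ, -h * r ^ 2 - s * r ^ 2 * δ, hr0, Or.inl hσr, ?_, ?_, ?_, ?_⟩
      · rw [map_add, map_neg, map_mul, hσh, hs, hδ]
        linear_combination -hh2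
      · simp only [map_sub, map_neg, map_mul, map_pow, hσh, hs, hδ, hσr]
        linear_combination -r ^ 2 * hh2
      · rw [hσr, htt, h1]
        -- `3 - 2 r + r² M = t0`
        have e1 : 3 - r - r + (-h + s * δ) * (-h * r ^ 2 - s * r ^ 2 * δ) = 3 - 2 * r + r * (r * M) := by
          rw [hM]; ring
        rw [e1, zero_mul, add_zero]
        apply mul_right_cancel₀ hM0
        have e2 : (3 - 2 * r + r * (r * M)) * M = 3 * M - 2 * (r * M) + (r * M) ^ 2 := by ring
        rw [e2, hrM]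
        linear_combination hyM
      · have e1 : -1 - r * (-h + s * δ) * (1 + (-h + s * δ)) = -1 + r * M := by
          rw [hM]
          linear_combination r * (-h + s * δ) * hh2
        rw [e1, hrM]
        have : -1 + (1 + y) = y := by ring
        rw [this]
        exact hy0
  · -- `t1 ≠ 0`
    obtain ⟨s, hs⟩ : ∃ s, s = (3 - t0) / (2 * δ ^ 2 * t1) := ⟨_, rfl⟩
    have hσs : σ s = s := by
      rw [hs, map_div₀, map_sub, map_mul, map_mul, map_pow, hδ, hσt0, hσt1, map_ofNat, map_ofNat, neg_sq]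
    have hs' : 2 * s * t1 * δ ^ 2 = 3 - t0 := by
      rw [hs]
      field_simp
    have hM0 := hN s hσs
    obtain ⟨M, hM⟩ : ∃ M, M = h ^ 2 - s ^ 2 * δ ^ 2 := ⟨_, rfl⟩
    rw [← hM] at hM0
    obtain ⟨r, hr⟩ : ∃ r, r = 2 / M := ⟨_, rfl⟩
    have hr0 : r ≠ 0 := by rw [hr]; exact div_ne_zero h2 hM0
    have hrM : r * M = 2 := by rw [hr, div_mul_cancel₀ _ hM0]
    have hσM : σ M = M := by
      rw [hM, map_sub, map_mul, map_pow, map_pow, map_pow, hσh, hσs, hδ]; ring
    have hσr : σ r = r := by rw [hr, map_div₀, map_ofNat, hσM]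
    refine ⟨r, -h + s * δ, -h * r ^ 2 + (-2 * t1 - s * r ^ 2) * δ, hr0, Or.inl hσr, ?_, ?_, ?_, ?_⟩
    · rw [map_add, map_neg, map_mul, hσh, hσs, hδ]
      linear_combination -hh2
    · simp only [map_add, map_sub, map_neg, map_mul, map_pow, hσh, hσs, hδ, hσr, hσt1, map_ofNat]
      linear_combination -r ^ 2 * hh2
    · rw [hσr, htt]
      have e1 : 3 - r - r + (-h + s * δ) * (-h * r ^ 2 + (-2 * t1 - s * r ^ 2) * δ) =
          3 - 2 * r + r * (r * M) - 2 * s * t1 * δ ^ 2 + (2 * h) * t1 * δ := by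
        rw [hM]; ring
      rw [e1, hs', hrM, hh2]
      ring
    · have e1 : -1 - r * (-h + s * δ) * (1 + (-h + s * δ)) = -1 + r * M := by
        rw [hM]
        linear_combination r * (-h + s * δ) * hh2
      rw [e1, hrM]
      norm_num

end Cfsg.Agent.H3.TC
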