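import Cfsg.Agent.LieClassical.HermBasic
import Mathlib.LinearAlgebra.Matrix.Trace
import Mathlib.GroupTheory.Index

/-!
# Conjugacy in `SU_3(q)` (helper3): cyclic isometries with the same characteristic polynomial are conjugate

`st σ A` : the adjoint of a `3 × 3` matrix with respect to the Hermitian form with Gram matrix the antidiagonal one.
-/

set_option autoImplicit false

namespace Cfsg.Agent.H3.TC

open Matrix Polynomial

/-! ### the counting lemma -/

/-- if every `u` with `u * τ u = 1` is `y / τ y`, then every fixed point of `τ` is `z * τ z` -/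
theorem norm_of_h90 {Γ : Type*} [CommGroup Γ] [Finite Γ] (τ : Γ →* Γ) (hτ : ∀ x, τ (τ x) = x)
    (h90 : ∀ u, u * τ u = 1 → ∃ y, u = y / τ y) (c : Γ) (hc : τ c = c) : ∃ z, z * τ z = c := by
  let D : Γ →* Γ := MonoidHom.id Γ / τ
  let N : Γ →* Γ := MonoidHom.id Γ * τ
  have hD : ∀ y, D y = y / τ y := fun y => rfl
  have hN : ∀ y, N y = y * τ y := fun y => rfl
  have hND : N.ker = D.range := by
    ext u
    rw [MonoidHom.mem_ker, MonoidHom.mem_range]
    constructor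
    · intro hu
      obtain ⟨y, hy⟩ := h90 u (by rw [← hN, hu])
      exact ⟨y, by rw [hD, ← hy]⟩
    · rintro ⟨y, rfl⟩
      rw [hD, hN, _root_.map_div, hτ, div_mul_div_comm, mul_comm, div_self']
  have h3 : N.range ≤ D.ker := by
    rintro _ ⟨y, rfl⟩
    rw [MonoidHom.mem_ker, hN, hD, map_mul, hτ, mul_comm (τ y), div_self']
  have h1 : Nat.card N.range * Nat.card N.ker = Nat.card Γ := by
    rw [← Subgroup.index_ker, mul_comm, Subgroup.card_mul_index]
  have h2 : Nat.card D.range * Nat.card D.ker = Nat.card Γ := by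
    rw [← Subgroup.index_ker, mul_comm, Subgroup.card_mul_index]
  have h4 : N.range = D.ker := by
    apply Subgroup.eq_of_le_of_card_ge h3
    rw [hND] at h1
    have h5 : 0 < Nat.card D.range := Nat.card_pos
    apply le_of_eq
    apply Nat.eq_of_mul_eq_mul_left h5
    rw [h2, mul_comm, h1]
  have h6 : c ∈ N.range := by
    rw [h4, MonoidHom.mem_ker, hD, hc, div_self']
  obtain ⟨z, hz⟩ := h6
  exact ⟨z, hz⟩

section

variable {F : Type*} [Field F]

/-- the adjoint -/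
def st (σ : F →+* F) (A : Matrix (Fin 3) (Fin 3) F) : Matrix (Fin 3) (Fin 3) F :=
  Matrix.of fun i j => σ (A (Fin.rev j) (Fin.rev i))

variable {σ : F →+* F}

theorem st_apply (A : Matrix (Fin 3) (Fin 3) F) (i j : Fin 3) : st σ A i j = σ (A (Fin.rev j) (Fin.rev i)) := rfl

theorem st_mul (A B : Matrix (Fin 3) (Fin 3) F) : st σ (A * B) = st σ B * st σ A := by
  ext i j
  rw [st_apply, Matrix.mul_apply, Matrix.mul_apply, map_sum, ← Equiv.sum_comp Fin.revPerm]
  refine Finset.sum_congr rfl fun k _ => ?_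
  rw [st_apply, st_apply, map_mul, mul_comm, Fin.revPerm_apply]

theorem st_add (A B : Matrix (Fin 3) (Fin 3) F) : st σ (A + B) = st σ A + st σ B := by
  ext i j
  rw [st_apply, Matrix.add_apply, Matrix.add_apply, map_add, st_apply, st_apply]

theorem st_smul (c : F) (A : Matrix (Fin 3) (Fin 3) F) : st σ (c • A) = σ c • st σ A := by
  ext i j
  rw [st_apply, Matrix.smul_apply, Matrix.smul_apply, smul_eq_mul, smul_eq_mul, map_mul, st_apply]

theorem st_one : st σ (1 : Matrix (Fin 3) (Fin 3) F) = 1 := by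
  ext i j
  rw [st_apply, Matrix.one_apply, Matrix.one_apply]
  by_cases h : i = j
  · rw [if_pos (by rw [h]), if_pos h, map_one]
  · rw [if_neg (fun h2 => h (Fin.rev_injective h2).symm), if_neg h, map_zero]

theorem st_st (hσ : ∀ x, σ (σ x) = x) (A : Matrix (Fin 3) (Fin 3) F) : st σ (st σ A) = A := by
  ext i j
  rw [st_apply, st_apply, hσ, Fin.rev_rev, Fin.rev_rev]

theorem det_st (A : Matrix (Fin 3) (Fin 3) F) : (st σ A).det = σ A.det := by
  have h : st σ A = ((σ.mapMatrix A).submatrix Fin.revPerm Fin.revPerm)ᵀ := by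
    ext i j
    rfl
  rw [h, Matrix.det_transpose, Matrix.det_submatrix_equiv_self, RingHom.map_det]

theorem trace_st (A : Matrix (Fin 3) (Fin 3) F) : (st σ A).trace = σ A.trace := by
  rw [Matrix.trace, Matrix.trace, map_sum, ← Equiv.sum_comp Fin.revPerm]
  rfl

/-! ### the parameter `θ` -/

/-- some `θ` is not a zero of `θ³ + a θ² θ^q + b θ θ^(2q) + c θ^(3q)` -/
theorem exists_theta [Fintype F] {q : ℕ} (hF : Fintype.card F = q ^ 2) (hσ : ∀ x, σ x = x ^ q) (hq : 3 ≤ q)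
    (a b c : F) : ∃ θ : F, θ ≠ 0 ∧ θ ^ 3 + a * θ ^ 2 * σ θ + b * θ * σ θ ^ 2 + c * σ θ ^ 3 ≠ 0 := by
  by_contra hcon
  push Not at hcon
  obtain ⟨r, rfl⟩ : ∃ r, q = r + 1 := ⟨q - 1, by omega⟩
  let P : F[X] := 1 + C a * X ^ r + C b * X ^ (2 * r) + C c * X ^ (3 * r)
  have hP : P = 0 := by
    classical
    apply Polynomial.eq_zero_of_natDegree_lt_card_of_eval_eq_zero' P (Finset.univ.filter fun x : F => x ≠ 0)
    · intro θ hθ
      have hθ0 : θ ≠ 0 := (Finset.mem_filter.1 hθ).2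
      have h1 := hcon θ hθ0
      rw [hσ] at h1
      have h2 : θ ^ 3 * P.eval θ = 0 := by
        rw [← h1]
        simp only [P, eval_add, eval_mul, eval_pow, eval_X, eval_C, eval_one]
        ring
      exact (mul_eq_zero.1 h2).resolve_left (pow_ne_zero 3 hθ0)
    · have h1 : P.natDegree ≤ 3 * r := by
        have e1 : (1 : F[X]).natDegree ≤ 3 * r := by rw [natDegree_one]; omega
        have e2 : (C a * X ^ r : F[X]).natDegree ≤ 3 * r := (natDegree_C_mul_X_pow_le _ _).trans (by omega)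
        have e3 : (C b * X ^ (2 * r) : F[X]).natDegree ≤ 3 * r := (natDegree_C_mul_X_pow_le _ _).trans (by omega)
        have e4 : (C c * X ^ (3 * r) : F[X]).natDegree ≤ 3 * r := natDegree_C_mul_X_pow_le _ _
        exact (natDegree_add_le_of_degree_le (natDegree_add_le_of_degree_le (natDegree_add_le_of_degree_le e1 e2) e3) e4)
      have h2 : (Finset.univ.filter fun x : F => x ≠ 0).card = (r + 1) ^ 2 - 1 := by
        rw [Finset.filter_ne', Finset.card_erase_of_mem (Finset.mem_univ _), Finset.card_univ, hF]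
      rw [h2]
      have h3 : (r + 1) ^ 2 - 1 = r * r + 2 * r := by
        have : (r + 1) ^ 2 = r * r + 2 * r + 1 := by ring
        omega
      have h4 : 2 * r ≤ r * r := Nat.mul_le_mul_right r (by omega)
      have h5 : 0 < r := by omega
      omega
  have h1 : P.coeff 0 = 1 := by
    have hr : r ≠ 0 := by omega
    simp [P, coeff_X_pow, hr, hr.symm]
  rw [hP, coeff_zero] at h1
  exact zero_ne_one h1

theorem det_one_smul_add (u : Matrix (Fin 3) (Fin 3) F) : ∃ a b c : F, ∀ s t : F,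
    (s • (1 : Matrix (Fin 3) (Fin 3) F) + t • u).det = s ^ 3 + a * s ^ 2 * t + b * s * t ^ 2 + c * t ^ 3 := by
  refine ⟨u.trace, u 0 0 * u 1 1 - u 0 1 * u 1 0 + (u 0 0 * u 2 2 - u 0 2 * u 2 0) + (u 1 1 * u 2 2 - u 1 2 * u 2 1),
    u.det, fun s t => ?_⟩
  rw [Matrix.det_fin_three, Matrix.det_fin_three, Matrix.trace_fin_three]
  simp only [Matrix.add_apply, Matrix.smul_apply, smul_eq_mul, Matrix.one_apply_eq, ne_eq, Fin.reduceEq,
    not_false_eq_true, Matrix.one_apply_ne, mul_zero, zero_add]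
  ring

/-! ### conjugacy under the unitary group -/

variable [Fintype F] {q : ℕ}

/-- the commutant of `G` is commutative -/
def CC (G : Matrix (Fin 3) (Fin 3) F) : Prop :=
  ∀ X Y : Matrix (Fin 3) (Fin 3) F, X * G = G * X → Y * G = G * Y → X * Y = Y * X

theorem st_comm {G X : Matrix (Fin 3) (Fin 3) F} (h1 : st σ G * G = 1) (hX : X * G = G * X) :
    st σ X * G = G * st σ X := by
  have h2 : G * st σ G = 1 := mul_eq_one_comm.1 h1
  have h3 := congrArg (st σ) hX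
  rw [st_mul, st_mul] at h3
  -- `st G * st X = st X * st G`
  calc st σ X * G = (G * st σ G) * st σ X * G := by rw [h2, one_mul]
    _ = G * (st σ G * st σ X) * G := by simp only [Matrix.mul_assoc]
    _ = G * (st σ X * st σ G) * G := by rw [h3]
    _ = G * st σ X * (st σ G * G) := by simp only [Matrix.mul_assoc]
    _ = G * st σ X := by rw [h1, Matrix.mul_one]

/-- the group of units commuting with `G` -/
def Cg (G : Matrix (Fin 3) (Fin 3) F) : Subgroup (Matrix (Fin 3) (Fin 3) F)ˣ where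
  carrier := {X | (X : Matrix (Fin 3) (Fin 3) F) * G = G * (X : Matrix (Fin 3) (Fin 3) F)}
  one_mem' := by show (1 : Matrix (Fin 3) (Fin 3) F) * G = G * 1; rw [Matrix.one_mul, Matrix.mul_one]
  mul_mem' := by
    intro X Y hX hY
    show ((X : Matrix (Fin 3) (Fin 3) F) * Y) * G = G * (X * Y)
    have hX' : (X : Matrix (Fin 3) (Fin 3) F) * G = G * X := hX
    have hY' : (Y : Matrix (Fin 3) (Fin 3) F) * G = G * Y := hY
    rw [Matrix.mul_assoc, hY', ← Matrix.mul_assoc, hX', Matrix.mul_assoc]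
  inv_mem' := by
    intro X hX
    show ((X⁻¹ : (Matrix (Fin 3) (Fin 3) F)ˣ) : Matrix (Fin 3) (Fin 3) F) * G = G * (X⁻¹ : (Matrix (Fin 3) (Fin 3) F)ˣ)
    have hX' : (X : Matrix (Fin 3) (Fin 3) F) * G = G * X := hX
    calc ((X⁻¹ : (Matrix (Fin 3) (Fin 3) F)ˣ) : Matrix (Fin 3) (Fin 3) F) * G
        = (X⁻¹ : (Matrix (Fin 3) (Fin 3) F)ˣ) * (G * (X * (X⁻¹ : (Matrix (Fin 3) (Fin 3) F)ˣ))) := by
          rw [Units.mul_inv, mul_one]
      _ = (X⁻¹ : (Matrix (Fin 3) (Fin 3) F)ˣ) * (G * X) * (X⁻¹ : (Matrix (Fin 3) (Fin 3) F)ˣ) := by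
          simp only [mul_assoc]
      _ = (X⁻¹ : (Matrix (Fin 3) (Fin 3) F)ˣ) * (X * G) * (X⁻¹ : (Matrix (Fin 3) (Fin 3) F)ˣ) := by rw [hX']
      _ = G * (X⁻¹ : (Matrix (Fin 3) (Fin 3) F)ˣ) := by
          rw [← mul_assoc, Units.inv_mul, one_mul]

/-- **norms in the commutant**: a self-adjoint unit `c` commuting with `G` is `z * st z` -/
theorem exists_norm (hF : Fintype.card F = q ^ 2) (hσ : ∀ x, σ x = x ^ q) (hσ2 : ∀ x, σ (σ x) = x) (hq : 3 ≤ q)
    {G : Matrix (Fin 3) (Fin 3) F} (h1 : st σ G * G = 1) (hc : CC G) {c : Matrix (Fin 3) (Fin 3) F}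
    (hcu : IsUnit c) (hcG : c * G = G * c) (hcs : st σ c = c) :
    ∃ z : Matrix (Fin 3) (Fin 3) F, IsUnit z ∧ z * G = G * z ∧ z * st σ z = c := by
  let _ : CommGroup (Cg G) := { (inferInstance : Group (Cg G)) with
    mul_comm := fun a b => Subtype.ext (Units.ext (hc _ _ a.2 b.2)) }
  let τ : Cg G →* Cg G :=
    { toFun := fun X => ⟨⟨st σ (X : (Matrix (Fin 3) (Fin 3) F)ˣ).val, st σ (X : (Matrix (Fin 3) (Fin 3) F)ˣ).inv,
        by rw [← st_mul, Units.inv_val, st_one], by rw [← st_mul, Units.val_inv, st_one]⟩, st_comm h1 X.2⟩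
      map_one' := Subtype.ext (Units.ext st_one)
      map_mul' := fun X Y => by
        apply Subtype.ext
        apply Units.ext
        show st σ ((X : (Matrix (Fin 3) (Fin 3) F)ˣ).val * (Y : (Matrix (Fin 3) (Fin 3) F)ˣ).val) = _
        rw [st_mul]
        exact hc _ _ (st_comm h1 Y.2) (st_comm h1 X.2) }
  have hτv : ∀ X : Cg G, ((τ X : (Matrix (Fin 3) (Fin 3) F)ˣ) : Matrix (Fin 3) (Fin 3) F) = st σ (X : (Matrix (Fin 3) (Fin 3) F)ˣ) :=
    fun X => rfl
  have hττ : ∀ X, τ (τ X) = X := fun X => Subtype.ext (Units.ext (by rw [hτv, hτv, st_st hσ2]))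
  have h90 : ∀ u, u * τ u = 1 → ∃ y, u = y / τ y := by
    intro u hu
    obtain ⟨a, b, c, habc⟩ := det_one_smul_add ((u : (Matrix (Fin 3) (Fin 3) F)ˣ) : Matrix (Fin 3) (Fin 3) F)
    obtain ⟨θ, hθ0, hθ⟩ := exists_theta (σ := σ) hF hσ hq a b c
    rw [← habc] at hθ
    have hyu : IsUnit (θ • (1 : Matrix (Fin 3) (Fin 3) F) + σ θ • ((u : (Matrix (Fin 3) (Fin 3) F)ˣ) : Matrix (Fin 3) (Fin 3) F)) := by
      rw [Matrix.isUnit_iff_isUnit_det]
      exact isUnit_iff_ne_zero.2 hθ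
    obtain ⟨y, hy⟩ := hyu
    have hu2 : ((u : (Matrix (Fin 3) (Fin 3) F)ˣ) : Matrix (Fin 3) (Fin 3) F) * st σ (u : (Matrix (Fin 3) (Fin 3) F)ˣ) = 1 := by
      have := congrArg (fun X : Cg G => ((X : (Matrix (Fin 3) (Fin 3) F)ˣ) : Matrix (Fin 3) (Fin 3) F)) hu
      exact this
    have hyG : (y : Matrix (Fin 3) (Fin 3) F) * G = G * y := by
      rw [hy, Matrix.add_mul, Matrix.mul_add, Matrix.smul_mul, Matrix.smul_mul, Matrix.mul_smul, Matrix.mul_smul,
        Matrix.one_mul, Matrix.mul_one, u.2]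
    refine ⟨⟨y, hyG⟩, ?_⟩
    rw [eq_div_iff_mul_eq']
    apply Subtype.ext
    apply Units.ext
    show ((u : (Matrix (Fin 3) (Fin 3) F)ˣ) : Matrix (Fin 3) (Fin 3) F) * st σ (y : Matrix (Fin 3) (Fin 3) F) = y
    rw [hy, st_add, st_smul, st_smul, st_one, hσ2, Matrix.mul_add, Matrix.mul_smul,
      Matrix.mul_smul, Matrix.mul_one, hu2, add_comm]
  have : Finite (Cg G) := inferInstance
  obtain ⟨c', rfl⟩ := hcu
  obtain ⟨z, hz⟩ := norm_of_h90 τ hττ h90 ⟨c', hcG⟩ (Subtype.ext (Units.ext hcs))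
  refine ⟨(z : (Matrix (Fin 3) (Fin 3) F)ˣ), (z : (Matrix (Fin 3) (Fin 3) F)ˣ).isUnit, z.2, ?_⟩
  exact congrArg (fun X : Cg G => ((X : (Matrix (Fin 3) (Fin 3) F)ˣ) : Matrix (Fin 3) (Fin 3) F)) hz

/-- **conjugacy under the unitary group** -/
theorem conj_unitary (hF : Fintype.card F = q ^ 2) (hσ : ∀ x, σ x = x ^ q) (hσ2 : ∀ x, σ (σ x) = x) (hq : 3 ≤ q)
    {G₁ G₂ T : Matrix (Fin 3) (Fin 3) F} (h1 : st σ G₁ * G₁ = 1) (h2 : st σ G₂ * G₂ = 1) (hc : CC G₁)
    (hT : T * G₁ = G₂ * T) (hTu : IsUnit T) :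
    ∃ T' : Matrix (Fin 3) (Fin 3) F, st σ T' * T' = 1 ∧ T' * G₁ = G₂ * T' := by
  have h3 := congrArg (st σ) hT
  rw [st_mul, st_mul] at h3
  -- `st T * G₂ = G₁ * st T`
  have h4 : st σ T * G₂ = G₁ * st σ T := by
    have e1 : G₁ * st σ G₁ = 1 := mul_eq_one_comm.1 h1
    calc st σ T * G₂ = (G₁ * st σ G₁) * st σ T * G₂ := by rw [e1, one_mul]
      _ = G₁ * (st σ G₁ * st σ T) * G₂ := by simp only [Matrix.mul_assoc]
      _ = G₁ * (st σ T * st σ G₂) * G₂ := by rw [h3]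
      _ = G₁ * st σ T * (st σ G₂ * G₂) := by simp only [Matrix.mul_assoc]
      _ = G₁ * st σ T := by rw [h2, Matrix.mul_one]
  have hstT : IsUnit (st σ T) := by
    rw [Matrix.isUnit_iff_isUnit_det, det_st]
    rw [Matrix.isUnit_iff_isUnit_det] at hTu
    exact hTu.map σ
  obtain ⟨z, hzu, hzG, hz⟩ := exists_norm hF hσ hσ2 hq h1 hc (c := st σ T * T) (hstT.mul hTu)
    (by rw [Matrix.mul_assoc, hT, ← Matrix.mul_assoc, h4, Matrix.mul_assoc])
    (by rw [st_mul, st_st hσ2])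
  obtain ⟨z, rfl⟩ := hzu
  have hzc : (z : Matrix (Fin 3) (Fin 3) F) * st σ z = st σ z * z := hc _ _ hzG (st_comm h1 hzG)
  have hsz : st σ (z⁻¹ : (Matrix (Fin 3) (Fin 3) F)ˣ).val * st σ (z : Matrix (Fin 3) (Fin 3) F) = 1 := by
    rw [← st_mul, Units.mul_inv, st_one]
  have hzi : ((z⁻¹ : (Matrix (Fin 3) (Fin 3) F)ˣ) : Matrix (Fin 3) (Fin 3) F) * G₁ = G₁ * (z⁻¹ : (Matrix (Fin 3) (Fin 3) F)ˣ) :=
    (Cg G₁).inv_mem (x := z) hzG
  refine ⟨T * (z⁻¹ : (Matrix (Fin 3) (Fin 3) F)ˣ), ?_, ?_⟩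
  · rw [st_mul]
    calc st σ (z⁻¹ : (Matrix (Fin 3) (Fin 3) F)ˣ).val * st σ T * (T * (z⁻¹ : (Matrix (Fin 3) (Fin 3) F)ˣ))
        = st σ (z⁻¹ : (Matrix (Fin 3) (Fin 3) F)ˣ).val * (st σ T * T) * (z⁻¹ : (Matrix (Fin 3) (Fin 3) F)ˣ) := by
          simp only [Matrix.mul_assoc]
      _ = st σ (z⁻¹ : (Matrix (Fin 3) (Fin 3) F)ˣ).val * (st σ z * z) * (z⁻¹ : (Matrix (Fin 3) (Fin 3) F)ˣ) := by
          rw [← hz, hzc]
      _ = (st σ (z⁻¹ : (Matrix (Fin 3) (Fin 3) F)ˣ).val * st σ (z : Matrix (Fin 3) (Fin 3) F)) *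
            ((z : Matrix (Fin 3) (Fin 3) F) * (z⁻¹ : (Matrix (Fin 3) (Fin 3) F)ˣ)) := by
          simp only [Matrix.mul_assoc]
      _ = 1 := by rw [hsz, Units.mul_inv, one_mul]
  · rw [Matrix.mul_assoc, hzi, ← Matrix.mul_assoc, hT, Matrix.mul_assoc]

end

end Cfsg.Agent.H3.TC
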