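import Cfsg.Agent.H3.TC.Cop
import Cfsg.Agent.H3.TC.Psu
import Cfsg.Agent.LieClassical.FieldTransfer
import Mathlib.Algebra.QuadraticAlgebra.Basic

/-!
# `PP (PSU 3 K q)` from a table (helper3)
-/

set_option autoImplicit false

namespace Cfsg.Agent.H3.TC

open Matrix Cfsg

universe u

/-- powers -/
def M3.npw {K : Type*} [CommRing K] (A : M3 K) (n : ℕ) : M3 K := Nat.rec M3.one (fun _ r => r.mul A) n

theorem M3.toM_npw {K : Type*} [CommRing K] (A : M3 K) (n : ℕ) : (A.npw n).toM = A.toM ^ n := by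
  induction n with
  | zero => rw [pow_zero]; exact M3.toM_one
  | succ n ih =>
    rw [pow_succ, ← ih]
    exact M3.toM_mul _ _

/-- the element `w` -/
def M3.w {K : Type*} [CommRing K] : M3 K := ⟨0, 0, 1, 0, -1, 0, 1, 0, 0⟩

variable {F : Type u} [Field F] [Fintype F] [DecidableEq F] {q : ℕ}

/-- the first entry of a line -/
def hd1 (of : ℕ → F) (t : F) : List ℕ → Bool
  | n :: _ => decide (of n = t)
  | _ => false

/-- the first entry of a line of the second table -/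
def hd3 (of : ℕ → F) (t : F) : List ℕ → Bool
  | n :: _ :: _ :: _ => decide (of n = t)
  | _ => false

/-- **the row from the tables** -/
theorem pp_of_tab (hF : Fintype.card F = q ^ 2) (hq : 3 ≤ q) {k : ℕ} (hk : q + 1 ∣ 3 * k + 1) (s : F → F)
    (hs : ∀ x, s x = x ^ q) (of : ℕ → F) {X : M3 F} {t₀ : F} {LA LB : List (List ℕ)}
    (hX : M3.Ok s t₀ X) (hA : ∀ l ∈ LA, chk1 of s t₀ X l = true) (hB : ∀ l ∈ LB, chk2 of s t₀ l = true)
    (cA : ∀ t : F, LA.any (hd1 of t) = true) (cB : ∀ c : F, c * s c = 1 → LB.any (hd3 of c) = true)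
    (hbc : ∀ σ : F →+* F, (∀ x, σ x = x ^ q) → ∃ S P, Bc σ S P)
    (hiso : ∀ σ : F →+* F, (∀ x, σ x = x ^ q) → ∀ g : Matrix (Fin 3) (Fin 3) F,
      (∀ c : F, g ≠ c • (1 : Matrix (Fin 3) (Fin 3) F)) → ∃ e : Fin 3 → F, Bf σ e e = 0 ∧ Bf σ (g *ᵥ e) e ≠ 0)
    {r : ℕ} (hr : r.Prime) (hr5 : 5 ≤ r) (hXr : X.npw r = M3.one) (hXw : M3.w.mul X ≠ X.mul M3.w) :
    H494.TC.PP (PSU 3 F q) := by
  let σ : F →+* F := (LieClassical.HermBasic.conj hF : F →+* F)
  have hσ : ∀ x, σ x = x ^ q := fun x => LieClassical.HermBasic.conj_apply hF x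
  have hσ2 : ∀ x, σ (σ x) = x := fun x => by
    rw [hσ, hσ]; exact LieClassical.HermBasic.pow_q_pow_q hF x
  have hss : ∀ x, σ x = s x := fun x => by rw [hσ, hs]
  have hs' : (σ : F → F) = s := funext hss
  have hX' : M3.Ok σ t₀ X := by rw [hs']; exact hX
  obtain ⟨S, P, hSP⟩ := hbc σ hσ
  refine pp_of_cover hσ hSP hX'.us hr hr5 ?_ ?_ ?_
  · rw [← M3.toM_npw, hXr, M3.toM_one]
  · refine ⟨wW, us_wW, fun h => hXw ?_⟩
    have h1 : wW = (M3.w : M3 F).toM := rfl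
    rw [h1, ← M3.toM_mul, ← M3.toM_mul] at h
    have h2 : ∀ A B : M3 F, A.toM = B.toM → A = B := by
      intro A B hAB
      have e := fun i j => congrFun (congrFun hAB i) j
      cases A
      cases B
      have e00 := e 0 0
      have e01 := e 0 1
      have e02 := e 0 2
      have e10 := e 1 0
      have e11 := e 1 1
      have e12 := e 1 2
      have e20 := e 2 0
      have e21 := e 2 1
      have e22 := e 2 2
      simp only [M3.toM] at e00 e01 e02 e10 e11 e12 e20 e21 e22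
      simp at e00 e01 e02 e10 e11 e12 e20 e21 e22
      simp [e00, e01, e02, e10, e11, e12, e20, e21, e22]
    exact h2 _ _ h
  · intro g hg hgs
    refine ⟨1, one_pow 3, by rw [map_one, one_mul], ?_⟩
    rw [one_smul]
    refine cover_tab hF hσ hσ2 hq hk (hiso σ hσ) hX' (t1_of of s hss hA ?_) (t2_of of s hss hB ?_) hg hgs
    · intro t
      obtain ⟨l, hl, hlt⟩ := List.any_eq_true.1 (cA t)
      rcases l with _ | ⟨n, l⟩
      · cases hlt
      · exact ⟨n, l, hl, of_decide_eq_true hlt⟩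
    · intro c hc
      obtain ⟨l, hl, hlt⟩ := List.any_eq_true.1 (cB c hc)
      rcases l with _ | ⟨n, _ | ⟨β, _ | ⟨b', l⟩⟩⟩
      · cases hlt
      · cases hlt
      · cases hlt
      · exact ⟨n, β, b', l, hl, of_decide_eq_true hlt⟩

omit [DecidableEq F] in
/-- the basis change in odd characteristic -/
theorem exists_bc (hF : Fintype.card F = q ^ 2) (h2 : (2 : F) ≠ 0) (σ : F →+* F) (hσ : ∀ x, σ x = x ^ q) :
    ∃ S P, Bc σ S P := by
  have hσ2 : ∀ x, σ (σ x) = x := fun x => by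
    rw [hσ, hσ]; exact LieClassical.HermBasic.pow_q_pow_q hF x
  obtain ⟨k, hk⟩ := LieClassical.HermBasic.exists_norm_eq hF (c := (-1 : F)) (by
    rw [← hσ, map_neg, map_one])
  rw [← hσ] at hk
  have hσh : σ (2⁻¹ : F) = 2⁻¹ := by rw [map_inv₀, map_ofNat]
  exact ⟨_, _, bc_odd hσ2 hk (mul_inv_cancel₀ h2) hσh⟩

omit [DecidableEq F] in
theorem iso_odd (hF : Fintype.card F = q ^ 2) (h2 : (2 : F) ≠ 0) (σ : F →+* F) (hσ : ∀ x, σ x = x ^ q)
    (g : Matrix (Fin 3) (Fin 3) F) (hs : ∀ c : F, g ≠ c • (1 : Matrix (Fin 3) (Fin 3) F)) :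
    ∃ e : Fin 3 → F, Bf σ e e = 0 ∧ Bf σ (g *ᵥ e) e ≠ 0 := by
  obtain ⟨δ, hδ0, hδ⟩ := LieClassical.HermBasic.exists_trace_zero_ne hF
  rw [← hσ] at hδ
  exact exists_iso h2 hδ0 (by linear_combination hδ) hs

end Cfsg.Agent.H3.TC
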