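import Cfsg.Agent.H3.TC.Tab

/-!
# `PSU_3(3)` and `PSU_3(9)`: products of two conjugates of an element of order `7`, `73` (helper3)
-/

set_option autoImplicit false

namespace Cfsg.Agent.H3.TC

open Matrix Cfsg

/-- the field with nine elements -/
abbrev K9 : Type := QuadraticAlgebra (ZMod 3) 2 0

namespace K9

instance hab : Fact (∀ r : ZMod 3, r ^ 2 ≠ 2 + 0 * r) := ⟨by decide⟩

instance fin : Fintype K9 := Fintype.ofEquiv (ZMod 3 × ZMod 3) (QuadraticAlgebra.equivProd 2 0).symm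

def of (n : ℕ) : K9 := ⟨(Fin.ofNat 3 n : Fin 3), (Fin.ofNat 3 (n / 3) : Fin 3)⟩

def s (x : K9) : K9 := ⟨x.re, -x.im⟩

theorem card : Fintype.card K9 = 3 ^ 2 := by
  rw [Fintype.card_congr (QuadraticAlgebra.equivProd (2 : ZMod 3) 0), Fintype.card_prod, ZMod.card]; rfl

theorem s_eq : ∀ x : K9, s x = x ^ 3 := by decide +kernel

end K9

def X3 : List ℕ := [3, 8, 6, 0, 2, 8, 1, 5, 5]
def t3 : ℕ := 7
def tabA3 : List (List ℕ) := [[0, 1, 4, 8, 6, 8, 7, 1, 1, 1],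
  [1, 2, 2, 5, 6, 7, 7, 2, 5, 1],
  [2, 5, 2, 3, 1, 2, 6, 2, 0, 3],
  [3, 6, 2, 6, 4, 6, 7, 5, 0, 4],
  [4, 3, 2, 5, 7, 3, 8, 7, 6, 1],
  [5, 3, 6, 4, 2, 0, 4, 3, 3, 4],
  [6, 8, 8, 3, 0, 6, 3, 5, 5, 5],
  [7, 5, 2, 7, 7, 4, 6, 1, 2, 1],
  [8, 8, 5, 1, 4, 4, 1, 3, 7, 7]]
def tabB3 : List (List ℕ) := [[1, 3, 3, 1, 5, 5, 7, 7, 1, 2, 3, 2],
  [2, 1, 1, 5, 5, 1, 6, 0, 4, 3, 1, 5],
  [3, 4, 8, 2, 4, 1, 8, 7, 2, 7, 3, 1],
  [6, 5, 7, 1, 8, 5, 1, 6, 0, 7, 0, 0]]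

theorem chkA3 : ∀ l ∈ tabA3, chk1 K9.of K9.s (K9.of t3) (mk9 K9.of X3) l = true := by decide +kernel
theorem chkB3 : ∀ l ∈ tabB3, chk2 K9.of K9.s (K9.of t3) l = true := by decide +kernel
theorem okX3 : M3.Ok K9.s (K9.of t3) (mk9 K9.of X3) := by decide +kernel

theorem pp_K9 : H494.TC.PP (PSU 3 K9 3) :=
  pp_of_tab K9.card (by norm_num) (k := 1) (by norm_num) K9.s K9.s_eq K9.of okX3 chkA3 chkB3 (by decide +kernel)
    (by decide +kernel) (fun σ hσ => exists_bc K9.card (by decide +kernel) σ hσ)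
    (fun σ hσ g hg => iso_odd K9.card (by decide +kernel) σ hσ g hg) (r := 7) (by norm_num) (by norm_num)
    (by decide +kernel) (by decide +kernel)

theorem pp_psu_three_three {F : Type*} [Field F] [Fintype F] (hF : Fintype.card F = 9) : H494.TC.PP (PSU 3 F 3) :=
  H494.TC.PP.of_equiv (LieClassical.FieldTransfer.psuCongr 3 3 (FiniteField.ringEquivOfCardEq (K := F) (K' := K9)
    (by rw [K9.card, hF]; norm_num))) pp_K9

/-- the field with 81 elements -/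
abbrev K81 : Type := QuadraticAlgebra K9 (K9.of 4) 0

namespace K81

instance hab : Fact (∀ r : K9, r ^ 2 ≠ K9.of 4 + 0 * r) := ⟨by decide +kernel⟩

instance fin : Fintype K81 := Fintype.ofEquiv (K9 × K9) (QuadraticAlgebra.equivProd (K9.of 4) 0).symm

def of (n : ℕ) : K81 := ⟨K9.of n, K9.of (n / 9)⟩

def s (x : K81) : K81 := ⟨x.re, -x.im⟩

theorem card : Fintype.card K81 = 9 ^ 2 := by
  rw [Fintype.card_congr (QuadraticAlgebra.equivProd (K9.of 4) 0), Fintype.card_prod, K9.card]; rfl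

theorem s_eq : ∀ x : K81, s x = x ^ 9 := by decide +kernel

end K81

def X9 : List ℕ := [22, 56, 38, 13, 67, 59, 14, 22, 69]
def t9 : ℕ := 41
def tabA9 : List (List ℕ) := [[0, 66, 60, 27, 12, 37, 11, 8, 9, 46],
  [1, 24, 78, 75, 80, 49, 56, 20, 18, 4],
  [2, 33, 48, 65, 35, 66, 50, 3, 64, 32],
  [3, 39, 71, 55, 45, 6, 26, 24, 78, 5],
  [4, 79, 20, 33, 61, 71, 68, 32, 72, 11],
  [5, 36, 50, 56, 73, 27, 44, 17, 54, 59],
  [6, 59, 29, 58, 73, 35, 12, 13, 0, 40],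
  [7, 60, 4, 30, 76, 58, 0, 6, 63, 13],
  [8, 66, 45, 49, 16, 41, 56, 58, 52, 51],
  [9, 58, 63, 34, 67, 19, 2, 50, 75, 72],
  [10, 76, 27, 40, 33, 26, 44, 18, 34, 59],
  [11, 80, 10, 28, 61, 20, 37, 16, 41, 61],
  [12, 52, 31, 55, 42, 11, 68, 25, 26, 17],
  [13, 30, 41, 19, 44, 17, 33, 20, 48, 3],
  [14, 23, 10, 10, 48, 19, 51, 48, 57, 29],
  [15, 27, 53, 32, 44, 39, 60, 36, 35, 56],
  [16, 4, 37, 44, 33, 52, 39, 35, 0, 21],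
  [17, 71, 48, 8, 14, 59, 60, 16, 23, 4],
  [18, 34, 29, 59, 13, 6, 63, 35, 37, 10],
  [19, 26, 12, 13, 69, 1, 28, 25, 23, 53],
  [20, 53, 68, 42, 20, 2, 13, 27, 17, 25],
  [21, 80, 16, 54, 62, 58, 12, 27, 55, 23],
  [22, 77, 44, 68, 30, 54, 14, 53, 68, 18],
  [23, 18, 0, 3, 77, 2, 14, 18, 31, 48],
  [24, 57, 17, 43, 38, 7, 7, 65, 73, 67],
  [25, 31, 54, 68, 7, 75, 25, 8, 52, 52],
  [26, 1, 55, 59, 72, 74, 72, 5, 5, 77],
  [27, 1, 25, 20, 33, 67, 21, 48, 60, 54],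
  [28, 36, 7, 13, 73, 40, 1, 13, 35, 73],
  [29, 66, 56, 42, 79, 2, 31, 5, 0, 54],
  [30, 8, 14, 5, 54, 22, 57, 38, 74, 50],
  [31, 24, 64, 57, 21, 61, 13, 54, 25, 73],
  [32, 4, 38, 44, 4, 36, 46, 31, 75, 1],
  [33, 8, 46, 64, 51, 75, 40, 44, 13, 75],
  [34, 13, 70, 73, 26, 24, 25, 74, 5, 40],
  [35, 67, 3, 64, 65, 5, 28, 72, 76, 62],
  [36, 63, 72, 46, 53, 40, 18, 38, 32, 46],
  [37, 29, 9, 54, 78, 44, 71, 78, 63, 61],
  [38, 26, 19, 36, 43, 24, 16, 31, 75, 27],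
  [39, 62, 79, 39, 60, 18, 18, 71, 1, 78],
  [40, 74, 66, 24, 69, 22, 58, 52, 65, 56],
  [41, 26, 46, 18, 33, 9, 48, 14, 24, 42],
  [42, 36, 3, 33, 58, 76, 64, 60, 15, 37],
  [43, 43, 58, 21, 54, 49, 50, 40, 20, 66],
  [44, 45, 55, 65, 76, 49, 18, 15, 3, 55],
  [45, 74, 31, 23, 64, 12, 25, 32, 74, 63],
  [46, 26, 52, 75, 21, 45, 50, 23, 49, 6],
  [47, 58, 22, 65, 72, 17, 53, 59, 34, 59],
  [48, 62, 68, 10, 69, 46, 32, 49, 58, 53],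
  [49, 54, 73, 45, 38, 33, 65, 48, 5, 44],
  [50, 73, 10, 6, 24, 37, 50, 22, 80, 39],
  [51, 56, 24, 28, 51, 73, 63, 61, 27, 23],
  [52, 80, 47, 63, 64, 70, 68, 1, 76, 11],
  [53, 77, 5, 5, 64, 22, 23, 3, 15, 62],
  [54, 4, 57, 17, 78, 44, 3, 37, 56, 5],
  [55, 67, 22, 26, 64, 41, 63, 53, 49, 53],
  [56, 65, 78, 76, 5, 25, 40, 27, 38, 71],
  [57, 63, 14, 23, 7, 27, 79, 35, 30, 32],
  [58, 64, 30, 3, 5, 57, 73, 71, 79, 1],
  [59, 46, 40, 62, 5, 67, 50, 43, 28, 36],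
  [60, 22, 32, 41, 33, 48, 20, 40, 3, 7],
  [61, 10, 59, 11, 73, 26, 59, 49, 6, 44],
  [62, 2, 61, 41, 14, 15, 7, 46, 73, 33],
  [63, 56, 78, 68, 42, 28, 63, 68, 21, 41],
  [64, 70, 66, 67, 19, 29, 48, 34, 22, 35],
  [65, 47, 29, 55, 47, 57, 74, 36, 18, 45],
  [66, 40, 14, 21, 74, 28, 61, 28, 46, 54],
  [67, 29, 24, 71, 68, 21, 76, 53, 1, 18],
  [68, 19, 25, 33, 7, 37, 47, 3, 23, 12],
  [69, 63, 72, 46, 67, 78, 12, 37, 25, 17],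
  [70, 33, 2, 3, 68, 54, 24, 28, 24, 44],
  [71, 10, 34, 69, 57, 6, 6, 78, 48, 34],
  [72, 75, 6, 64, 29, 75, 79, 44, 20, 8],
  [73, 1, 20, 69, 70, 67, 11, 10, 72, 54],
  [74, 14, 65, 65, 47, 30, 7, 59, 75, 6],
  [75, 69, 20, 1, 62, 66, 13, 65, 66, 23],
  [76, 37, 52, 16, 37, 0, 76, 80, 60, 4],
  [77, 29, 4, 3, 72, 49, 20, 14, 71, 74],
  [78, 71, 31, 7, 4, 13, 10, 31, 80, 77],
  [79, 36, 24, 73, 23, 67, 72, 28, 61, 46],
  [80, 77, 1, 75, 13, 64, 37, 33, 52, 11]]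
def tabB9 : List (List ℕ) := [[1, 9, 63, 36, 76, 34, 73, 60, 72, 13, 62, 35],
  [2, 1, 1, 44, 45, 11, 63, 79, 67, 28, 50, 38],
  [31, 11, 33, 16, 50, 34, 34, 75, 26, 1, 54, 67],
  [35, 13, 42, 40, 62, 19, 41, 72, 59, 64, 26, 37],
  [50, 12, 79, 77, 41, 3, 1, 68, 54, 62, 73, 16],
  [52, 14, 25, 44, 14, 49, 12, 1, 73, 72, 0, 8],
  [58, 10, 30, 30, 70, 52, 24, 64, 39, 70, 62, 28],
  [62, 17, 39, 31, 15, 64, 67, 36, 21, 25, 28, 55],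
  [68, 15, 77, 34, 69, 5, 63, 50, 7, 77, 77, 77],
  [70, 16, 23, 40, 39, 14, 50, 79, 44, 80, 56, 39]]

theorem chkA9 : ∀ l ∈ tabA9, chk1 K81.of K81.s (K81.of t9) (mk9 K81.of X9) l = true := by decide +kernel
theorem chkB9 : ∀ l ∈ tabB9, chk2 K81.of K81.s (K81.of t9) l = true := by decide +kernel
theorem okX9 : M3.Ok K81.s (K81.of t9) (mk9 K81.of X9) := by decide +kernel

theorem pp_K81 : H494.TC.PP (PSU 3 K81 9) :=
  pp_of_tab K81.card (by norm_num) (k := 3) (by norm_num) K81.s K81.s_eq K81.of okX9 chkA9 chkB9 (by decide +kernel)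
    (by decide +kernel) (fun σ hσ => exists_bc K81.card (by decide +kernel) σ hσ)
    (fun σ hσ g hg => iso_odd K81.card (by decide +kernel) σ hσ g hg) (r := 73) (by norm_num) (by norm_num)
    (by decide +kernel) (by decide +kernel)

theorem pp_psu_three_nine {F : Type*} [Field F] [Fintype F] (hF : Fintype.card F = 81) : H494.TC.PP (PSU 3 F 9) :=
  H494.TC.PP.of_equiv (LieClassical.FieldTransfer.psuCongr 3 9 (FiniteField.ringEquivOfCardEq (K := F) (K' := K81)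
    (by rw [K81.card, hF]; norm_num))) pp_K81

end Cfsg.Agent.H3.TC
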